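import Cfsg.Agent.H14.GTwoOrd.Normal

/-!
# The Galois action on the eigenvalues
-/

set_option autoImplicit false

namespace Cfsg.Agent.H14.GTwoOrd

open scoped Polynomial

variable {K : Type*} [Field K]

/-- The invariant of a pair of inverse numbers. -/
def pr (x : K) : K := x + x⁻¹

theorem pr_cases {x y : K} (hx : x ≠ 0) (hy : y ≠ 0) (h : pr x = pr y) : x = y ∨ x = y⁻¹ := by
  have key : (x - y) * (x * y - 1) = 0 := by
    simp only [pr] at h
    field_simp at h
    linear_combination h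
  rcases mul_eq_zero.mp key with h | h
  · exact Or.inl (sub_eq_zero.mp h)
  · exact Or.inr (eq_inv_of_mul_eq_one_left (sub_eq_zero.mp h))

theorem pr_inv (x : K) : pr x⁻¹ = pr x := by rw [pr, pr, inv_inv, add_comm]

omit [Field K] in
/-- Halving a doubled multiset. -/
theorem double_cancel {M N : Multiset K} (h : M + M = N + N) : M = N := by
  classical
  refine Multiset.ext.mpr fun x => ?_
  have := congrArg (Multiset.count x) h
  simp only [Multiset.count_add] at this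
  omega

omit [Field K] in
theorem three_perm {A B C A' B' C' : K} (h : A' ::ₘ B' ::ₘ {C'} = A ::ₘ B ::ₘ ({C} : Multiset K)) :
    A' = A ∧ B' = B ∧ C' = C ∨ A' = B ∧ B' = A ∧ C' = C ∨ A' = C ∧ B' = B ∧ C' = A ∨
    A' = A ∧ B' = C ∧ C' = B ∨ A' = B ∧ B' = C ∧ C' = A ∨ A' = C ∧ B' = A ∧ C' = B := by
  have two : ∀ {P Q P' Q' : K}, P' ::ₘ ({Q'} : Multiset K) = P ::ₘ {Q} →
      P' = P ∧ Q' = Q ∨ P' = Q ∧ Q' = P := by
    intro P Q P' Q' e
    have hm : P' ∈ P ::ₘ ({Q} : Multiset K) := e ▸ Multiset.mem_cons_self _ _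
    rcases Multiset.mem_cons.mp hm with rfl | hm
    · exact Or.inl ⟨rfl, Multiset.singleton_inj.mp ((Multiset.cons_inj_right _).mp e)⟩
    · rw [Multiset.mem_singleton] at hm
      subst hm
      rw [← Multiset.cons_zero P', Multiset.cons_swap, Multiset.cons_zero] at e
      exact Or.inr ⟨rfl, Multiset.singleton_inj.mp ((Multiset.cons_inj_right _).mp e)⟩
  have hm : A' ∈ A ::ₘ B ::ₘ ({C} : Multiset K) := h ▸ Multiset.mem_cons_self _ _
  simp only [Multiset.mem_cons, Multiset.mem_singleton] at hm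
  rcases hm with rfl | rfl | rfl
  · rcases two ((Multiset.cons_inj_right _).mp h) with ⟨e1, e2⟩ | ⟨e1, e2⟩ <;> subst e1 e2 <;> simp
  · rw [Multiset.cons_swap A A'] at h
    rcases two ((Multiset.cons_inj_right _).mp h) with ⟨e1, e2⟩ | ⟨e1, e2⟩ <;> subst e1 e2 <;> simp
  · rw [← Multiset.cons_zero A', Multiset.cons_swap B A', Multiset.cons_swap A A', Multiset.cons_zero] at h
    rcases two ((Multiset.cons_inj_right _).mp h) with ⟨e1, e2⟩ | ⟨e1, e2⟩ <;> subst e1 e2 <;> simp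

/-- The eigenvalue pairs are permuted by the Frobenius map. -/
theorem frob_perm {F : Type*} [Field F] [Fintype F] (φ : F →+* K) (ψ : K →+* K) {q : ℕ}
    (hq : Fintype.card F = q) (hψ : ∀ x, ψ x = x ^ q) (s : Cfsg.Lie.G2 F) (c : Cfsg.Lie.G2 K)
    (l : Fin 3 → K) (h : l 0 * l 1 * l 2 = 1) (hc : c * mapG φ s * c⁻¹ = slG (diag3 l h)) :
    pr (l 0 ^ q) ::ₘ pr (l 1 ^ q) ::ₘ {pr (l 2 ^ q)} =
      pr (l 0) ::ₘ pr (l 1) ::ₘ ({pr (l 2)} : Multiset K) := by
  have e0 : ((slG (diag3 l h) : GL (Fin 8) K) : Matrix (Fin 8) (Fin 8) K) = Matrix.diagonal (d8 l) :=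
    Matrix.toLin'.injective (ap_diag l h)
  obtain ⟨M, hM⟩ : ∃ M : Matrix (Fin 8) (Fin 8) F, M = ((s : GL (Fin 8) F) : Matrix (Fin 8) (Fin 8) F) :=
    ⟨_, rfl⟩
  obtain ⟨C, hC⟩ : ∃ C : GL (Fin 8) K, C = (c : GL (Fin 8) K) := ⟨_, rfl⟩
  have hc' : (C : Matrix (Fin 8) (Fin 8) K) * M.map φ * ((C⁻¹ : GL (Fin 8) K) : Matrix (Fin 8) (Fin 8) K) =
      Matrix.diagonal (d8 l) := by
    rw [← e0, ← hc, hM, hC]
    rfl
  have hP : M.charpoly.map φ = ∏ i, (Polynomial.X - Polynomial.C (d8 l i)) := by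
    rw [← Matrix.charpoly_map, ← Matrix.charpoly_units_conj C (M.map φ), ← Matrix.coe_units_inv, hc', Matrix.charpoly_diagonal]
  have hψφ : ψ.comp φ = φ := RingHom.ext fun a => by
    rw [RingHom.comp_apply, hψ, ← map_pow, ← hq, FiniteField.pow_card]
  have hinv : ∏ i, (Polynomial.X - Polynomial.C (ψ (d8 l i))) =
      ∏ i, (Polynomial.X - Polynomial.C (d8 l i)) := by
    have h1 : (∏ i, (Polynomial.X - Polynomial.C (d8 l i))).map ψ =
        ∏ i, (Polynomial.X - Polynomial.C (ψ (d8 l i))) := by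
      simp [Polynomial.map_prod]
    rw [← h1, ← hP, Polynomial.map_map, hψφ]
  have hroots := congrArg Polynomial.roots hinv
  rw [Finset.prod_eq_multiset_prod, Finset.prod_eq_multiset_prod] at hroots
  have key : ∀ g : Fin 8 → K, Multiset.map (fun i => Polynomial.X - Polynomial.C (g i))
      (Finset.univ : Finset (Fin 8)).val =
      Multiset.map (fun a => Polynomial.X - Polynomial.C a) (Finset.univ.val.map g) := fun g => by
    rw [Multiset.map_map]; rfl
  rw [key, key, Polynomial.roots_multiset_prod_X_sub_C, Polynomial.roots_multiset_prod_X_sub_C] at hroots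
  have e12 : l 1 * l 2 = (l 0)⁻¹ := eq_inv_of_mul_eq_one_right (by rw [← mul_assoc, h])
  have e02 : l 0 * l 2 = (l 1)⁻¹ := eq_inv_of_mul_eq_one_left (by rw [mul_right_comm, h])
  have e01 : l 0 * l 1 = (l 2)⁻¹ := eq_inv_of_mul_eq_one_left h
  have hpr := congrArg (Multiset.map pr) hroots
  rw [Multiset.map_map, Multiset.map_map] at hpr
  have hu : (Finset.univ : Finset (Fin 8)).val = 0 ::ₘ 7 ::ₘ 1 ::ₘ 2 ::ₘ 3 ::ₘ 4 ::ₘ 5 ::ₘ {6} := by decide
  rw [hu] at hpr
  simp [d8, hψ, e12, e02, e01, inv_pow, pr_inv] at hpr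
  refine double_cancel ?_
  simpa [Multiset.cons_swap, Multiset.singleton_add] using hpr

theorem pow_pred_eq_one {x : K} (hx : x ≠ 0) {k : ℕ} (hk : 1 ≤ k) (h : x ^ k = x) : x ^ (k - 1) = 1 := by
  refine mul_right_cancel₀ hx ?_
  rw [one_mul, ← pow_succ, Nat.sub_add_cancel hk, h]

theorem pm_pow {x : K} (hx : x ≠ 0) {q : ℕ} (hq : 1 ≤ q) (h : x ^ q = x ∨ x ^ q = x⁻¹) :
    x ^ (q - 1) = 1 ∨ x ^ (q + 1) = 1 := by
  rcases h with h | h
  · exact Or.inl (pow_pred_eq_one hx hq h)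
  · exact Or.inr (by rw [pow_succ, h, inv_mul_cancel₀ hx])

theorem sq_fix {x : K} (hx : x ≠ 0) {q : ℕ} (hq : 1 ≤ q) (h : x ^ q = x ∨ x ^ q = x⁻¹) :
    x ^ (q ^ 2 - 1) = 1 := by
  refine pow_pred_eq_one hx (Nat.one_le_pow _ _ hq) ?_
  rcases h with h | h
  · rw [sq, pow_mul, h, h]
  · rw [sq, pow_mul, h, inv_pow, h, inv_inv]

/-- A fourth root of unity is fixed by the square of the Frobenius. -/
theorem four_fix {x : K} {q : ℕ} (hpar : Odd q ∨ (2 : K) = 0) (h : x ^ 4 = 1) : x ^ (q ^ 2 - 1) = 1 := by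
  rcases hpar with hq | h2
  · obtain ⟨k, rfl⟩ := hq
    have e : (2 * k + 1) ^ 2 = 4 * (k * (k + 1)) + 1 := by ring
    rw [e, Nat.add_sub_cancel, pow_mul, h, one_pow]
  · have : (x - 1) ^ 4 = 0 := by linear_combination h + (-2 * x ^ 3 + 3 * x ^ 2 - 2 * x + 1) * h2
    rw [sub_eq_zero.mp (pow_eq_zero_iff (by norm_num) |>.mp this), one_pow]

theorem trans_fix {a b c : K} {q : ℕ} (hq : 1 ≤ q) (hpar : Odd q ∨ (2 : K) = 0) (habc : a * b * c = 1)
    (hab : a ^ q = b ∨ a ^ q = b⁻¹) (hba : b ^ q = a ∨ b ^ q = a⁻¹) (hc : c ^ q = c ∨ c ^ q = c⁻¹) :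
    a ^ (q ^ 2 - 1) = 1 ∧ b ^ (q ^ 2 - 1) = 1 ∧ c ^ (q ^ 2 - 1) = 1 := by
  have ha : a ≠ 0 := fun e => by simp [e] at habc
  have hb : b ≠ 0 := fun e => by simp [e] at habc
  have hc0 : c ≠ 0 := fun e => by simp [e] at habc
  have hq2 : 1 ≤ q ^ 2 := Nat.one_le_pow _ _ hq
  have hcN := sq_fix hc0 hq hc
  have haq : a ^ q ^ 2 = a ∨ a ^ q ^ 2 = a⁻¹ := by
    rw [sq, pow_mul]
    rcases hab with e | e <;> rw [e] <;> rcases hba with e' | e' <;> simp [inv_pow, e']
  have key : a ^ (q ^ 2 - 1) = 1 → b ^ (q ^ 2 - 1) = 1 := fun h => by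
    have hh : (a * b * c) ^ (q ^ 2 - 1) = 1 := by rw [habc, one_pow]
    rwa [mul_pow, mul_pow, h, hcN, one_mul, mul_one] at hh
  suffices ha' : a ^ (q ^ 2 - 1) = 1 by exact ⟨ha', key ha', hcN⟩
  rcases haq with h | h
  · exact pow_pred_eq_one ha hq2 h
  · refine four_fix hpar ?_
    have hbq : b ^ q ^ 2 = b⁻¹ := by
      rw [sq, pow_mul]
      have h' : (a ^ q) ^ q = a⁻¹ := by rw [← pow_mul, ← sq, h]
      rcases hab with e | e
      · rw [← e, h', inv_pow, e]
      · rw [show b = (a ^ q)⁻¹ by rw [e, inv_inv], inv_pow, inv_pow, h', inv_pow]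
    have h2 : (a * b) ^ q ^ 2 = a * b := by
      have hcq : c ^ q ^ 2 = c := by
        have := congrArg (· * c) hcN
        simpa only [one_mul, ← pow_succ, Nat.sub_add_cancel hq2] using this
      have : (a * b * c) ^ q ^ 2 = a * b * c := by rw [habc, one_pow]
      rw [mul_pow, hcq] at this
      exact mul_right_cancel₀ hc0 this
    rw [mul_pow, h, hbq] at h2
    have hab2 : (a * b) ^ 2 = 1 := by field_simp at h2; linear_combination -h2
    have hb1 : b = a⁻¹ ∨ b = -a⁻¹ := by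
      rcases sq_eq_one_iff.mp hab2 with e | e
      · exact Or.inl (eq_inv_of_mul_eq_one_right e)
      · right; field_simp; linear_combination e
    -- now `a ^ q` squares to the square of `a` or of its inverse
    have hA : (a ^ 2) ^ q = a ^ 2 ∨ (a ^ 2) ^ q = (a ^ 2)⁻¹ := by
      rw [← pow_mul, mul_comm, pow_mul]
      rcases hab with e | e <;> rw [e] <;> rcases hb1 with e' | e' <;> rw [e'] <;> simp
    have h3 := sq_fix (pow_ne_zero 2 ha) hq hA
    have h4 : (a ^ 2) ^ q ^ 2 = a ^ 2 := by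
      have := congrArg (· * a ^ 2) h3
      simpa only [one_mul, ← pow_succ, Nat.sub_add_cancel hq2] using this
    rw [← pow_mul, mul_comm, pow_mul, h, inv_pow] at h4
    field_simp at h4
    linear_combination -h4

theorem cycle_fix {a b c : K} {q : ℕ} (hq : 1 ≤ q) (hpar : Odd q ∨ (2 : K) = 0) (habc : a * b * c = 1)
    (hab : a ^ q = b ∨ a ^ q = b⁻¹) (hbc : b ^ q = c ∨ b ^ q = c⁻¹) (hca : c ^ q = a ∨ c ^ q = a⁻¹) :
    (a ^ (q ^ 2 - 1) = 1 ∧ b ^ (q ^ 2 - 1) = 1 ∧ c ^ (q ^ 2 - 1) = 1) ∨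
    (a ^ (q ^ 2 + q + 1) = 1 ∧ b ^ (q ^ 2 + q + 1) = 1 ∧ c ^ (q ^ 2 + q + 1) = 1) ∨
    (a ^ (q ^ 2 - q + 1) = 1 ∧ b ^ (q ^ 2 - q + 1) = 1 ∧ c ^ (q ^ 2 - q + 1) = 1) := by
  have ha : a ≠ 0 := fun e => by simp [e] at habc
  have hb : b ≠ 0 := fun e => by simp [e] at habc
  have hprod : a ^ q * b ^ q * c ^ q = 1 := by rw [← mul_pow, ← mul_pow, habc, one_pow]
  -- a square among them equal to one makes all three square to one
  have small : a ^ 2 = 1 ∨ b ^ 2 = 1 ∨ c ^ 2 = 1 →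
      a ^ (q ^ 2 - 1) = 1 ∧ b ^ (q ^ 2 - 1) = 1 ∧ c ^ (q ^ 2 - 1) = 1 := by
    have step : ∀ {x y : K}, (x ^ q = y ∨ x ^ q = y⁻¹) → x ^ 2 = 1 → y ^ 2 = 1 := by
      intro x y hxy h
      have h' : (x ^ q) ^ 2 = 1 := by rw [← pow_mul, mul_comm, pow_mul, h, one_pow]
      rcases hxy with e | e <;> rw [e] at h'
      · exact h'
      · rwa [inv_pow, inv_eq_one] at h'
    intro h
    have hall : a ^ 2 = 1 ∧ b ^ 2 = 1 ∧ c ^ 2 = 1 := by
      rcases h with h | h | h
      · exact ⟨h, step hab h, step hbc (step hab h)⟩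
      · exact ⟨step hca (step hbc h), h, step hbc h⟩
      · exact ⟨step hca h, step hab (step hca h), h⟩
    have f : ∀ {x : K}, x ^ 2 = 1 → x ^ (q ^ 2 - 1) = 1 := fun {x} hx =>
      four_fix hpar (by linear_combination (x ^ 2 + 1) * hx)
    exact ⟨f hall.1, f hall.2.1, f hall.2.2⟩
  rcases hab with e1 | e1 <;> rcases hbc with e2 | e2 <;> rcases hca with e3 | e3
  case inl.inl.inl =>
    refine Or.inr (Or.inl ?_)
    have hc' : c = a ^ q ^ 2 := by rw [sq, pow_mul, e1, e2]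
    have h : a ^ (q ^ 2 + q + 1) = 1 := by rw [pow_add, pow_add, ← hc', e1, pow_one]; linear_combination habc
    refine ⟨h, ?_, ?_⟩
    · rw [← e1, ← pow_mul, mul_comm, pow_mul, h, one_pow]
    · rw [hc', ← pow_mul, mul_comm, pow_mul, h, one_pow]
  case inr.inr.inr =>
    refine Or.inr (Or.inr ?_)
    have hb' : b = (a ^ q)⁻¹ := by rw [e1, inv_inv]
    have hc' : c = a ^ q ^ 2 := by rw [sq, pow_mul, e1, inv_pow, e2, inv_inv]
    have hle : q ≤ q ^ 2 + 1 := le_trans (Nat.le_self_pow two_ne_zero q) (Nat.le_succ _)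
    have h : a ^ (q ^ 2 - q + 1) = 1 := by
      refine mul_right_cancel₀ (pow_ne_zero q ha) ?_
      rw [← pow_add, show q ^ 2 - q + 1 + q = q ^ 2 + 1 by have := Nat.le_self_pow two_ne_zero q; omega,
        pow_succ, ← hc', one_mul, e1]
      field_simp
      linear_combination habc
    refine ⟨h, ?_, ?_⟩
    · rw [hb', inv_pow, ← pow_mul, mul_comm, pow_mul, h, one_pow, inv_one]
    · rw [hc', ← pow_mul, mul_comm, pow_mul, h, one_pow]
  all_goals
    refine Or.inl (small ?_)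
    rw [e1, e2, e3] at hprod
    have hc : c ≠ 0 := fun e => by simp [e] at habc
    field_simp at hprod
    first
      | (left; linear_combination hprod)
      | (left; linear_combination -hprod)
      | (right; left; linear_combination hprod)
      | (right; left; linear_combination -hprod)
      | (right; right; linear_combination hprod)
      | (right; right; linear_combination -hprod)
      | (left; linear_combination habc - a * hprod)
      | (left; linear_combination habc + a * hprod)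
      | (right; left; linear_combination habc - b * hprod)
      | (right; left; linear_combination habc + b * hprod)
      | (right; right; linear_combination habc - c * hprod)
      | (right; right; linear_combination habc + c * hprod)

end Cfsg.Agent.H14.GTwoOrd
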