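import Cfsg.Agent.H14.GTwoOrd.Basic
import Cfsg.Agent.H87.OctModel
import Cfsg.Agent.H55.UnitaryOrders

/-!
# Elements of prescribed order in `G₂(q)`
-/

set_option autoImplicit false

namespace Cfsg.Agent.H14.GTwoOrd

open Cfsg.Lie (zornMul dot3 cross3)
open Cfsg.Agent.H55.Cover.GTwo (oct up dn oct_eta phi psi slAct)
open scoped Matrix MatrixGroups

variable {F : Type*} [Field F] [Fintype F]

/-- A Singer element. -/
theorem exists_gl_order (d : ℕ) (hd : 1 ≤ d) :
    ∃ g : GL (Fin d) F, orderOf g = Fintype.card F ^ d - 1 := by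
  classical
  haveI : NeZero d := ⟨by omega⟩
  obtain ⟨p, hp⟩ := CharP.exists F
  haveI : Fact p.Prime := ⟨CharP.char_is_prime F p⟩
  let K := FiniteField.Extension F p d
  letI : Fintype K := Fintype.ofFinite K
  have hK : Fintype.card K = Fintype.card F ^ d := by
    rw [Fintype.card_eq_nat_card, Fintype.card_eq_nat_card]; exact FiniteField.natCard_extension F p d
  let b : Module.Basis (Fin d) F K := Module.finBasisOfFinrankEq F K (FiniteField.finrank_extension F p d)
  obtain ⟨γ, hγ⟩ := IsCyclic.exists_generator (α := Kˣ)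
  let ι : Kˣ →* GL (Fin d) F := Units.map (Algebra.leftMulMatrix b : K →* Matrix (Fin d) (Fin d) F)
  have hι : Function.Injective ι := Units.map_injective (Algebra.leftMulMatrix_injective b)
  refine ⟨ι γ, ?_⟩
  rw [orderOf_injective ι hι,
    orderOf_eq_card_of_forall_mem_zpowers hγ, Nat.card_eq_fintype_card, Fintype.card_units, hK]

theorem exists_sl_order (d N : ℕ) (hd : 1 ≤ d) (hN : Fintype.card F ^ d - 1 = (Fintype.card F - 1) * N) :
    ∃ P : Matrix.SpecialLinearGroup (Fin d) F, orderOf P = N := by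
  classical
  obtain ⟨g, hg⟩ := exists_gl_order (F := F) d hd
  have hq : 1 < Fintype.card F := Fintype.one_lt_card
  have hdet : ((g ^ (Fintype.card F - 1) : GL (Fin d) F) : Matrix (Fin d) (Fin d) F).det = 1 := by
    rw [Units.val_pow_eq_pow_val, Matrix.det_pow]
    exact FiniteField.pow_card_sub_one_eq_one _ ((Matrix.isUnit_iff_isUnit_det _).mp g.isUnit).ne_zero
  obtain ⟨P, hP⟩ : ∃ P : Matrix.SpecialLinearGroup (Fin d) F,
      Matrix.SpecialLinearGroup.toGL P = g ^ (Fintype.card F - 1) := ⟨⟨_, hdet⟩, Units.ext rfl⟩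
  refine ⟨P, ?_⟩
  rw [← orderOf_injective (Matrix.SpecialLinearGroup.toGL) Matrix.SpecialLinearGroup.toGL_injective, hP,
    orderOf_pow_of_dvd (by omega) (hg ▸ hN ▸ Dvd.intro _ rfl), hg, hN, Nat.mul_div_cancel_left _ (by omega)]

omit [Fintype F] in
/-- `GL₂` inside `SL₃`. -/
theorem exists_gl2Hom : ∃ φ : GL (Fin 2) F →* Matrix.SpecialLinearGroup (Fin 3) F, Function.Injective φ := by
  let T : GL (Fin 2) F → Matrix (Fin 3) (Fin 3) F := fun g =>
    !![(g : Matrix (Fin 2) (Fin 2) F) 0 0, (g : Matrix (Fin 2) (Fin 2) F) 0 1, 0;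
      (g : Matrix (Fin 2) (Fin 2) F) 1 0, (g : Matrix (Fin 2) (Fin 2) F) 1 1, 0;
      0, 0, (g : Matrix (Fin 2) (Fin 2) F).det⁻¹]
  have hT : ∀ g, (T g).det = 1 := fun g => by
    have h := ((Matrix.isUnit_iff_isUnit_det _).mp g.isUnit).ne_zero
    rw [Matrix.det_fin_two] at h
    simp [T, Matrix.det_fin_three, Matrix.det_fin_two]
    rw [← sub_mul, mul_inv_cancel₀ h]
  refine ⟨MonoidHom.mk' (fun g => (⟨T g, hT g⟩ : Matrix.SpecialLinearGroup (Fin 3) F)) fun g h => ?_, ?_⟩
  · refine Subtype.ext ?_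
    show T (g * h) = T g * T h
    ext i j
    fin_cases i <;> fin_cases j <;>
      simp [T, Matrix.mul_apply, Fin.sum_univ_three, Fin.sum_univ_two, Units.val_mul, Matrix.det_mul, mul_comm]
  · intro g h e
    have e' : T g = T h := congrArg Subtype.val e
    refine Units.ext (Matrix.ext fun i j => ?_)
    fin_cases i <;> fin_cases j
    · exact congrFun (congrFun e' 0) 0
    · exact congrFun (congrFun e' 0) 1
    · exact congrFun (congrFun e' 1) 0
    · exact congrFun (congrFun e' 1) 1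

theorem exists_order_plus : ∃ g : Cfsg.Lie.G2 F,
    orderOf g = Fintype.card F ^ 2 + Fintype.card F + 1 := by
  obtain ⟨P, hP⟩ := exists_sl_order (F := F) 3 (Fintype.card F ^ 2 + Fintype.card F + 1) (by norm_num) (by
    have h1 : 1 ≤ Fintype.card F := Fintype.card_pos
    zify [Nat.one_le_pow 3 (Fintype.card F) h1, h1]; ring)
  exact ⟨slG P, by rw [orderOf_injective _ slG_injective, hP]⟩

theorem exists_order_sq : ∃ g : Cfsg.Lie.G2 F, orderOf g = Fintype.card F ^ 2 - 1 := by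
  obtain ⟨φ, hφ⟩ := exists_gl2Hom (F := F)
  obtain ⟨g, hg⟩ := exists_gl_order (F := F) 2 (by norm_num)
  exact ⟨slG (φ g), by rw [orderOf_injective _ slG_injective, orderOf_injective _ hφ, hg]⟩

/-- A pair of commuting elements of `SL₂`. -/
theorem exists_order_mul (p : ℕ) [Fact p.Prime] [CharP F p] (a : Matrix.SpecialLinearGroup (Fin 2) F)
    (hco : Nat.Coprime (orderOf a) p) : ∃ g : Cfsg.Lie.G2 F, orderOf g = p * orderOf a := by
  classical
  let b : Matrix.SpecialLinearGroup (Fin 2) F := Matrix.SpecialLinearGroup.transvection (i := 0) (j := 1) (by decide) 1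
  have bpow : ∀ k : ℕ, ((b ^ k : Matrix.SpecialLinearGroup (Fin 2) F) : Matrix (Fin 2) (Fin 2) F) = !![1, (k : F); 0, 1] := by
    intro k
    induction k with
    | zero => ext i j; fin_cases i <;> fin_cases j <;> simp
    | succ k ih =>
      rw [pow_succ, Matrix.SpecialLinearGroup.coe_mul, ih]
      ext i j
      fin_cases i <;> fin_cases j <;>
        simp [b, Matrix.SpecialLinearGroup.transvection_coe, Matrix.mul_apply, Fin.sum_univ_two,
          Matrix.single_apply] <;> ring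
  obtain ⟨D, hD⟩ : ∃ D : H87.Oct.Delta F, D.1 = (Matrix.SpecialLinearGroup.toGL a, Matrix.SpecialLinearGroup.toGL b) :=
    ⟨⟨(_, _), by
      rw [H87.Oct.mem_Delta]
      apply Units.ext
      simp [Matrix.GeneralLinearGroup.val_det_apply]⟩, rfl⟩
  refine ⟨H87.Oct.phiG D, ?_⟩
  have key : ∀ k : ℕ, H87.Oct.phiG D ^ k = 1 ↔ ∃ l : F,
      ((a ^ k : Matrix.SpecialLinearGroup (Fin 2) F) : Matrix (Fin 2) (Fin 2) F) = l • 1 ∧
      (!![1, (k : F); 0, 1] : Matrix (Fin 2) (Fin 2) F) = l • 1 := by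
    intro k
    rw [← map_pow, H87.Oct.phiG_eq_one, ← bpow]
    simp only [SubmonoidClass.coe_pow, hD, Prod.pow_fst, Prod.pow_snd, ← map_pow,
      Matrix.SpecialLinearGroup.coeToGL_det, Matrix.SpecialLinearGroup.coe_pow]
    rfl
  apply Nat.dvd_antisymm
  · refine orderOf_dvd_of_pow_eq_one ((key _).mpr ⟨1, ?_, ?_⟩)
    · rw [mul_comm p, pow_mul, pow_orderOf_eq_one, one_pow, Matrix.SpecialLinearGroup.coe_one, one_smul]
    · rw [one_smul, Nat.cast_mul, CharP.cast_eq_zero, zero_mul, Matrix.one_fin_two]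
  · obtain ⟨l, h1, h2⟩ := (key _).mp (pow_orderOf_eq_one (H87.Oct.phiG D))
    have e00 : l = 1 := by simpa using (congrFun (congrFun h2 0) 0).symm
    have e01 : ((orderOf (H87.Oct.phiG D) : ℕ) : F) = 0 := by simpa [e00] using congrFun (congrFun h2 0) 1
    refine Nat.Coprime.mul_dvd_of_dvd_of_dvd (Nat.coprime_comm.mp hco) ((CharP.cast_eq_zero_iff F p _).mp e01) ?_
    refine orderOf_dvd_of_pow_eq_one (Subtype.ext ?_)
    rw [h1, e00, one_smul, Matrix.SpecialLinearGroup.coe_one]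

theorem exists_order_p_sub (p : ℕ) [Fact p.Prime] [CharP F p] {n : ℕ} (hn : 1 ≤ n)
    (hF : Fintype.card F = p ^ n) : ∃ g : Cfsg.Lie.G2 F, orderOf g = p * (Fintype.card F - 1) := by
  classical
  obtain ⟨t, ht⟩ := IsCyclic.exists_generator (α := Fˣ)
  have hto : orderOf t = Fintype.card F - 1 := by
    rw [orderOf_eq_card_of_forall_mem_zpowers ht, Nat.card_eq_fintype_card, Fintype.card_units]
  let T : Fˣ →* Matrix.SpecialLinearGroup (Fin 2) F :=
    MonoidHom.mk' (fun u => ⟨Matrix.diagonal ![(u : F), ((u⁻¹ : Fˣ) : F)], by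
      rw [Matrix.det_diagonal, Fin.prod_univ_two]; simp⟩) (fun u v => Subtype.ext (by
        show Matrix.diagonal _ = Matrix.diagonal _ * Matrix.diagonal _
        rw [Matrix.diagonal_mul_diagonal]
        congr 1; funext i; fin_cases i <;> simp [mul_comm]))
  have hT : Function.Injective T := fun u v e => by
    have := congrFun (congrFun (congrArg Subtype.val e) 0) 0
    exact Units.ext this
  have ho : orderOf (T t) = Fintype.card F - 1 := by rw [orderOf_injective _ hT, hto]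
  obtain ⟨g, hg⟩ := exists_order_mul p (T t) (by
    rw [ho, hF, Nat.coprime_comm, (Fact.out : p.Prime).coprime_iff_not_dvd]
    intro h
    have h2 : p ∣ p ^ n := dvd_pow_self p (by omega)
    have h3 : p ∣ p ^ n - (p ^ n - 1) := Nat.dvd_sub h2 h
    rw [Nat.sub_sub_self (Nat.one_le_pow _ _ (Fact.out : p.Prime).pos)] at h3
    exact (Fact.out : p.Prime).one_lt.ne' (Nat.dvd_one.mp h3))
  exact ⟨g, by rw [hg, ho]⟩

theorem exists_order_p_add (p : ℕ) [Fact p.Prime] [CharP F p] {n : ℕ} (hn : 1 ≤ n)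
    (hF : Fintype.card F = p ^ n) : ∃ g : Cfsg.Lie.G2 F, orderOf g = p * (Fintype.card F + 1) := by
  obtain ⟨P, hP⟩ := exists_sl_order (F := F) 2 (Fintype.card F + 1) (by norm_num) (by
    have h1 : 1 ≤ Fintype.card F := Fintype.card_pos
    zify [Nat.one_le_pow 2 (Fintype.card F) h1, h1]; ring)
  obtain ⟨g, hg⟩ := exists_order_mul p P (by
    rw [hP, hF, Nat.coprime_comm, (Fact.out : p.Prime).coprime_iff_not_dvd]
    intro h
    have h2 : p ∣ p ^ n := dvd_pow_self p (by omega)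
    exact (Fact.out : p.Prime).one_lt.ne' (Nat.dvd_one.mp ((Nat.dvd_add_right h2).mp h)))
  exact ⟨g, by rw [hg, hP]⟩

omit [Fintype F] in
theorem phi_comp (c : Fin 3 → F) (f : O8 F → O8 F) (g : Cfsg.Lie.G2 F) (hg : ∀ x, ap g x = f x) (x : O8 F) :
    ap (phiG c * g) x = phi c (f x) := by rw [ap_mul_apply, ap_phiG, hg]

omit [Fintype F] in
/-- The order from a computation on basis vectors. -/
theorem orderOf_of_iterate (g : Cfsg.Lie.G2 F) (f : O8 F → O8 F) (hg : ∀ x, ap g x = f x) (n : ℕ)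
    (hn : ∀ i j : Fin 8, f^[n] (Pi.single i 1) j = (Pi.single i (1 : F) : O8 F) j) :
    g ^ n = 1 := by
  apply ap_injective
  refine (Pi.basisFun F (Fin 8)).ext fun i => ?_
  rw [Pi.basisFun_apply, ap_pow_iterate, ap_one, Module.End.one_apply, show (ap g : O8 F → O8 F) = f from funext hg]
  exact funext (hn i)

omit [Fintype F] in
theorem pow_ne_of_iterate (g : Cfsg.Lie.G2 F) (f : O8 F → O8 F) (hg : ∀ x, ap g x = f x) (n : ℕ)
    (hn : ∃ i j : Fin 8, f^[n] (Pi.single i 1) j ≠ (Pi.single i (1 : F) : O8 F) j) :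
    g ^ n ≠ 1 := by
  obtain ⟨i, j, h⟩ := hn
  intro e
  apply h
  rw [← show (ap g : O8 F → O8 F) = f from funext hg, ← ap_pow_iterate, e, ap_one, Module.End.one_apply]

/-- The transvection used below. -/
def tv21 (R : Type*) [CommRing R] : Matrix.SpecialLinearGroup (Fin 3) R :=
  ⟨!![1, 0, 0; 1, 1, 0; 0, 0, 1], by simp [Matrix.det_fin_three]⟩

/-- The regular unipotent element on vectors. -/
def regf (R : Type*) [Field R] (x : O8 R) : O8 R := phi ![1, 0, 0] (slAct !![1, 0, 0; 1, 1, 0; 0, 0, 1] x)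

/-- An element of order twelve on vectors, in characteristic two. -/
def twf (R : Type*) [Field R] (x : O8 R) : O8 R := phi ![1, 0, 0] (phi ![0, 1, 0] (psi ![1, 0, 0] x))

instance : Fact (Nat.Prime 5) := ⟨by norm_num⟩

theorem calc_two : (∀ i j : Fin 8, (regf (ZMod 2))^[8] (Pi.single i 1) j = (Pi.single i 1 : O8 (ZMod 2)) j) ∧
    (∃ i j : Fin 8, (regf (ZMod 2))^[4] (Pi.single i 1) j ≠ (Pi.single i 1 : O8 (ZMod 2)) j) := by
  decide +kernel

theorem calc_twelve : (∀ i j : Fin 8, (twf (ZMod 2))^[12] (Pi.single i 1) j = (Pi.single i 1 : O8 (ZMod 2)) j) ∧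
    (∃ i j : Fin 8, (twf (ZMod 2))^[6] (Pi.single i 1) j ≠ (Pi.single i 1 : O8 (ZMod 2)) j) ∧
    (∃ i j : Fin 8, (twf (ZMod 2))^[4] (Pi.single i 1) j ≠ (Pi.single i 1 : O8 (ZMod 2)) j) := by
  decide +kernel

theorem calc_three : (∀ i j : Fin 8, (regf (ZMod 3))^[9] (Pi.single i 1) j = (Pi.single i 1 : O8 (ZMod 3)) j) ∧
    (∃ i j : Fin 8, (regf (ZMod 3))^[3] (Pi.single i 1) j ≠ (Pi.single i 1 : O8 (ZMod 3)) j) := by
  decide +kernel

theorem calc_five : (∀ i j : Fin 8, (regf (ZMod 5))^[25] (Pi.single i 1) j = (Pi.single i 1 : O8 (ZMod 5)) j) ∧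
    (∃ i j : Fin 8, (regf (ZMod 5))^[5] (Pi.single i 1) j ≠ (Pi.single i 1 : O8 (ZMod 5)) j) := by
  decide +kernel

omit [Fintype F] in
theorem reg_apply (x : O8 F) : ap (phiG ![1, 0, 0] * slG (tv21 F)) x = regf F x := by
  rw [ap_mul_apply, ap_phiG, ap_slG]; rfl

omit [Fintype F] in
theorem tw_apply (x : O8 F) :
    ap (phiG ![1, 0, 0] * (phiG ![0, 1, 0] * psiG ![1, 0, 0])) x = twf F x := by
  rw [ap_mul_apply, ap_mul_apply, ap_phiG, ap_phiG, ap_psiG]; rfl

omit [Fintype F] in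
/-- The regular unipotent elements. -/
theorem exists_order_unip :
    (CharP F 2 → ∃ g : Cfsg.Lie.G2 F, orderOf g = 8) ∧ (CharP F 2 → ∃ g : Cfsg.Lie.G2 F, orderOf g = 12) ∧
    (CharP F 3 → ∃ g : Cfsg.Lie.G2 F, orderOf g = 3 ^ 2) ∧
    (CharP F 5 → ∃ g : Cfsg.Lie.G2 F, orderOf g = 5 ^ 2) := by
  refine ⟨fun h => ?_, fun h => ?_, fun h => ?_, fun h => ?_⟩
  · let φ := ZMod.castHom (dvd_refl 2) F
    refine ⟨mapG φ (phiG ![1, 0, 0] * slG (tv21 (ZMod 2))), ?_⟩
    rw [orderOf_injective _ (mapG_injective φ)]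
    exact orderOf_eq_prime_pow (p := 2) (n := 2)
      (pow_ne_of_iterate _ _ reg_apply 4 calc_two.2) (orderOf_of_iterate _ _ reg_apply 8 calc_two.1)
  · let φ := ZMod.castHom (dvd_refl 2) F
    refine ⟨mapG φ (phiG ![1, 0, 0] * (phiG ![0, 1, 0] * psiG ![1, 0, 0])), ?_⟩
    rw [orderOf_injective _ (mapG_injective φ)]
    refine orderOf_eq_of_pow_and_pow_div_prime (by norm_num)
      (orderOf_of_iterate _ _ tw_apply 12 calc_twelve.1) fun r hr hdvd => ?_
    have hr' : r = 2 ∨ r = 3 := by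
      rcases hr.dvd_mul.mp (show r ∣ 4 * 3 from hdvd) with h4 | h3
      · exact Or.inl ((Nat.prime_dvd_prime_iff_eq hr Nat.prime_two).mp (hr.dvd_of_dvd_pow (show r ∣ 2 ^ 2 from h4)))
      · exact Or.inr ((Nat.prime_dvd_prime_iff_eq hr Nat.prime_three).mp h3)
    rcases hr' with rfl | rfl
    · exact pow_ne_of_iterate _ _ tw_apply 6 calc_twelve.2.1
    · exact pow_ne_of_iterate _ _ tw_apply 4 calc_twelve.2.2
  · let φ := ZMod.castHom (dvd_refl 3) F
    refine ⟨mapG φ (phiG ![1, 0, 0] * slG (tv21 (ZMod 3))), ?_⟩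
    rw [orderOf_injective _ (mapG_injective φ)]
    exact orderOf_eq_prime_pow (p := 3) (n := 1)
      (pow_ne_of_iterate _ _ reg_apply 3 calc_three.2) (orderOf_of_iterate _ _ reg_apply 9 calc_three.1)
  · let φ := ZMod.castHom (dvd_refl 5) F
    refine ⟨mapG φ (phiG ![1, 0, 0] * slG (tv21 (ZMod 5))), ?_⟩
    rw [orderOf_injective _ (mapG_injective φ)]
    exact orderOf_eq_prime_pow (p := 5) (n := 1)
      (pow_ne_of_iterate _ _ reg_apply 5 calc_five.2) (orderOf_of_iterate _ _ reg_apply 25 calc_five.1)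

section Twisted

variable {E : Type*} [Field E]

omit [Fintype F] in
theorem ap_mapG (φ : F →+* E) (g : Cfsg.Lie.G2 F) (x : O8 F) : ap (mapG φ g) (φ ∘ x) = φ ∘ ap g x := by
  funext i
  simp only [ap, Matrix.toLin'_apply, coe_mapG, Function.comp_apply]
  exact (RingHom.map_mulVec φ _ x i).symm

omit [Fintype F] in
theorem mapG_slG (σ : E →+* E) (hσ : Function.Surjective σ) (P : Matrix.SpecialLinearGroup (Fin 3) E) :
    mapG σ (slG P) = slG (Matrix.SpecialLinearGroup.map σ P) := by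
  refine ap_injective (LinearMap.ext fun y => ?_)
  obtain ⟨x, rfl⟩ : ∃ x, σ ∘ x = y := ⟨fun i => (hσ (y i)).choose, funext fun i => (hσ (y i)).choose_spec⟩
  rw [ap_mapG, ap_slG, ap_slG]
  funext i
  fin_cases i <;>
    simp [slAct, oct, up, dn, Matrix.mulVec, dotProduct, Fin.sum_univ_three, Matrix.adjugate_fin_three]

theorem coord_comp (σ : E →+* E) (v : H87.Oct.Pair E) :
    σ ∘ H87.Oct.coord E v = H87.Oct.coord E (v.1.map σ, v.2.map σ) := by
  funext i; fin_cases i <;> simp [H87.Oct.coord]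

theorem ap_phiG_coord (p : H87.Oct.Delta E) (v : H87.Oct.Pair E) :
    ap (H87.Oct.phiG p) (H87.Oct.coord E v) = H87.Oct.coord E (H87.Oct.actLin p.1 v) := by
  rw [ap, Matrix.toLin'_apply]; exact H87.Oct.phiG_coord p v

/-- A matrix semisimilar to the swap gives an element moved by it under the Frobenius map. -/
theorem mapG_phiG (σ : E →+* E) (hσ : Function.Surjective σ) (p p' : H87.Oct.Delta E)
    (h1 : (p'.1.1 : Matrix (Fin 2) (Fin 2) E) = (p.1.1 : Matrix (Fin 2) (Fin 2) E).map σ)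
    (h2 : (p'.1.2 : Matrix (Fin 2) (Fin 2) E) = (p.1.2 : Matrix (Fin 2) (Fin 2) E).map σ) :
    mapG σ (H87.Oct.phiG p) = H87.Oct.phiG p' := by
  refine ap_injective (LinearMap.ext fun y => ?_)
  obtain ⟨x, rfl⟩ : ∃ x, σ ∘ x = y := ⟨fun i => (hσ (y i)).choose, funext fun i => (hσ (y i)).choose_spec⟩
  obtain ⟨v, rfl⟩ := (H87.Oct.coord E).surjective x
  rw [ap_mapG, ap_phiG_coord, coord_comp, coord_comp, ap_phiG_coord]
  congr 1
  have hinv : ((p'.1.1⁻¹ : GL (Fin 2) E) : Matrix (Fin 2) (Fin 2) E) =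
      ((p.1.1⁻¹ : GL (Fin 2) E) : Matrix (Fin 2) (Fin 2) E).map σ := by
    have e : p'.1.1 = Matrix.GeneralLinearGroup.map σ p.1.1 := Units.ext h1
    rw [e, ← map_inv]; rfl
  simp only [H87.Oct.actLin_apply, Matrix.map_mul, hinv, h1, h2]

/-- An element rational over the small field comes from it. -/
theorem exists_mapG {q : ℕ} (hq : Fintype.card F = q) (φ : F →+* E) (σ : E →+* E) (hσ : ∀ x, σ x = x ^ q)
    (g : Cfsg.Lie.G2 E) (hg : mapG σ g = g) : ∃ g0 : Cfsg.Lie.G2 F, mapG φ g0 = g := by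
  classical
  have hrange : ∀ x : E, x ^ q = x → x ∈ Set.range φ := by
    intro x hx
    by_contra hc
    have hq1 : 1 < q := hq ▸ Fintype.one_lt_card
    let P : Polynomial E := Polynomial.X ^ q - Polynomial.X
    have hP : P ≠ 0 := FiniteField.X_pow_card_sub_X_ne_zero E hq1
    have hsub : insert x (Finset.univ.image φ) ⊆ P.roots.toFinset := by
      intro y hy
      rw [Multiset.mem_toFinset, Polynomial.mem_roots hP]
      rcases Finset.mem_insert.mp hy with rfl | hy
      · simp [P, hx]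
      · obtain ⟨a, -, rfl⟩ := Finset.mem_image.mp hy
        simp [P, ← map_pow, ← hq, FiniteField.pow_card]
    have h1 := (Finset.card_le_card hsub).trans ((Multiset.toFinset_card_le _).trans (Polynomial.card_roots' P))
    rw [Finset.card_insert_of_notMem (by simpa using hc), Finset.card_image_of_injective _ φ.injective,
      Finset.card_univ, hq, FiniteField.X_pow_card_sub_X_natDegree_eq E hq1] at h1
    omega
  obtain ⟨M, hM⟩ : ∃ M : Matrix (Fin 8) (Fin 8) E, M = ((g : GL (Fin 8) E) : Matrix (Fin 8) (Fin 8) E) := ⟨_, rfl⟩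
  have hfix : ∀ i j, M i j ^ q = M i j := by
    intro i j
    have h := congrArg (fun z : Cfsg.Lie.G2 E => ((z : GL (Fin 8) E) : Matrix (Fin 8) (Fin 8) E) i j) hg
    rw [hM]
    simpa only [coe_mapG, Matrix.map_apply, hσ] using h
  choose N hN using fun i j => hrange _ (hfix i j)
  have hMN : (Matrix.of N).map φ = M := Matrix.ext fun i j => hN i j
  have hap : ∀ x : O8 F, φ ∘ (Matrix.of N *ᵥ x) = ap g (φ ∘ x) := by
    intro x; funext i
    rw [Function.comp_apply, RingHom.map_mulVec, hMN, hM, ap, Matrix.toLin'_apply]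
  have hinj : Function.Injective (fun x : O8 E → E => x) := fun _ _ h => h
  obtain ⟨g0, hg0⟩ := exists_ap (Matrix.toLin' (Matrix.of N)) (fun x y e => by
      have e' := congrArg (fun z => φ ∘ z) e
      simp only [Matrix.toLin'_apply, hap] at e'
      have e'' := congrArg (ap g⁻¹) e'
      rw [ap_inv_apply, ap_inv_apply] at e''
      exact funext fun i => φ.injective (congrFun e'' i)) (fun x y => by
      have h : φ ∘ (Matrix.of N *ᵥ zornMul x y) = φ ∘ zornMul (Matrix.of N *ᵥ x) (Matrix.of N *ᵥ y) := by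
        rw [hap, zorn_map, ap_zorn, ← hap, ← hap, ← zorn_map]
      simp only [Matrix.toLin'_apply]
      exact funext fun i => φ.injective (congrFun h i))
  refine ⟨g0, Subtype.ext (Units.ext ?_)⟩
  rw [coe_mapG, ← hM, ← hMN, Matrix.toLin'.injective (hg0 : ap g0 = _)]

theorem exists_order_minus_aux (p : ℕ) [Fact p.Prime] [CharP E p] [Fintype E] {n : ℕ} (hn : 1 ≤ n)
    (hF : Fintype.card F = p ^ n) (φ : F →+* E) {q : ℕ} (hqdef : q = Fintype.card F)
    (hE : Fintype.card E = q ^ 2) :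
    ∃ g : Cfsg.Lie.G2 F, orderOf g = q ^ 2 - q + 1 := by
  classical
  let σ : E →+* E := iterateFrobenius E p n
  have hqn : q = p ^ n := hqdef.trans hF
  have hσ : ∀ x : E, σ x = x ^ q := fun x => by rw [hqn]; exact iterateFrobenius_def p n x
  have hσs : Function.Surjective σ := Finite.surjective_of_injective σ.injective
  have hq1 : 1 < q := hqdef ▸ Fintype.one_lt_card
  have hσσ : ∀ x : E, (x ^ q) ^ q = x := fun x => by rw [← pow_mul, ← sq, ← hE, FiniteField.pow_card]
  -- a scalar of norm minus one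
  obtain ⟨k, hk⟩ : ∃ k : E, k ^ (q + 1) = -1 := by
    by_cases h2 : p = 2
    · subst h2
      refine ⟨1, ?_⟩
      rw [one_pow, ← sub_eq_zero, sub_neg_eq_add]
      exact CharTwo.add_self_eq_zero 1
    obtain ⟨γ, hγ⟩ := IsCyclic.exists_generator (α := Eˣ)
    have hγo : orderOf γ = q ^ 2 - 1 := by
      rw [orderOf_eq_card_of_forall_mem_zpowers hγ, Nat.card_eq_fintype_card, Fintype.card_units, hE]
    obtain ⟨t, ht⟩ : Odd q := by
      rw [hqn]; exact ((Fact.out : p.Prime).odd_of_ne_two h2).pow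
    have ht0 : 1 ≤ t := by omega
    refine ⟨((γ ^ t : Eˣ) : E), ?_⟩
    have e2 : ((γ ^ t : Eˣ) ^ (q + 1)) ^ 2 = 1 := by
      rw [← pow_mul, ← pow_mul, ← orderOf_dvd_iff_pow_eq_one, hγo]
      exact dvd_of_eq (by
        zify [Nat.one_le_pow 2 q (by omega)]
        rw [ht]; push_cast; ring)
    have e1 : (γ ^ t : Eˣ) ^ (q + 1) ≠ 1 := by
      rw [← pow_mul, Ne, ← orderOf_dvd_iff_pow_eq_one, hγo]
      intro h
      have := Nat.le_of_dvd (by positivity) h
      have h3 : t * (q + 1) * 2 = q ^ 2 - 1 := by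
        zify [Nat.one_le_pow 2 q (by omega)]
        rw [ht]; push_cast; ring
      have : 0 < t * (q + 1) := by positivity
      omega
    rw [← Units.val_pow_eq_pow_val]
    have e2' : ((((γ ^ t : Eˣ) ^ (q + 1) : Eˣ)) : E) ^ 2 = 1 := by
      rw [← Units.val_pow_eq_pow_val, e2, Units.val_one]
    exact (sq_eq_one_iff.mp e2').resolve_left fun h => e1 (Units.ext (by rw [h, Units.val_one]))
  have hk0 : k ≠ 0 := fun e => by rw [e, zero_pow (by omega)] at hk; exact one_ne_zero (neg_eq_zero.mp hk.symm)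
  -- an element outside the small field
  obtain ⟨θ, hθ⟩ : ∃ θ : E, θ ^ q ≠ θ := by
    by_contra hc
    push Not at hc
    have hq2 : q < Fintype.card E := by rw [hE, sq]; exact lt_mul_self hq1
    have hP := FiniteField.X_pow_card_sub_X_ne_zero E hq1
    have hsub : (Finset.univ : Finset E) ⊆ (Polynomial.X ^ q - Polynomial.X : Polynomial E).roots.toFinset := by
      intro y _
      rw [Multiset.mem_toFinset, Polynomial.mem_roots hP]
      simp [hc y]
    have h1 := (Finset.card_le_card hsub).trans ((Multiset.toFinset_card_le _).trans (Polynomial.card_roots' _))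
    rw [FiniteField.X_pow_card_sub_X_natDegree_eq E hq1, Finset.card_univ] at h1
    omega
  let A : Matrix (Fin 2) (Fin 2) E := !![1, -k⁻¹; θ, -(θ ^ q * k⁻¹)]
  have hA : A.det ≠ 0 := by
    rw [Matrix.det_fin_two]
    intro e
    simp [A] at e
    have : (θ - θ ^ q) * k⁻¹ = 0 := by linear_combination e
    exact hθ (sub_eq_zero.mp ((mul_eq_zero.mp this).resolve_right (inv_ne_zero hk0))).symm
  let J : Matrix (Fin 2) (Fin 2) E := !![0, k; -k, 0]
  have hJ : J.det ≠ 0 := by rw [Matrix.det_fin_two]; simp [J, hk0]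
  obtain ⟨Ag, hAg⟩ : ∃ Ag : GL (Fin 2) E, (Ag : Matrix (Fin 2) (Fin 2) E) = A :=
    ⟨((Matrix.isUnit_iff_isUnit_det A).mpr (Ne.isUnit hA)).unit, rfl⟩
  obtain ⟨Jg, hJg⟩ : ∃ Jg : GL (Fin 2) E, (Jg : Matrix (Fin 2) (Fin 2) E) = J :=
    ⟨((Matrix.isUnit_iff_isUnit_det J).mpr (Ne.isUnit hJ)).unit, rfl⟩
  have hσA : A.map σ = A * J := by
    have hki : (k ^ q)⁻¹ = -k := by
      refine inv_eq_of_mul_eq_one_right ?_
      rw [mul_neg, ← pow_succ, hk, neg_neg]
    have e01 : σ (-k⁻¹) = k := by rw [map_neg, map_inv₀, hσ, hki, neg_neg]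
    have e11 : σ (-(θ ^ q * k⁻¹)) = θ * k := by rw [map_neg, map_mul, map_inv₀, hσ, hσ, hσσ, hki]; ring
    ext i j
    fin_cases i <;> fin_cases j
    · simp [A, J, Matrix.mul_apply, Fin.sum_univ_two]; field_simp
    · simpa [A, J, Matrix.mul_apply, Fin.sum_univ_two, map_neg, map_inv₀] using e01
    · simp [A, J, Matrix.mul_apply, Fin.sum_univ_two, hσ]; field_simp
    · simpa [A, J, Matrix.mul_apply, Fin.sum_univ_two, map_neg, map_mul, map_inv₀] using e11
  obtain ⟨pA, hpA⟩ : ∃ pA : H87.Oct.Delta E, pA.1 = (Ag, Ag) :=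
    ⟨⟨(Ag, Ag), by rw [H87.Oct.mem_Delta]⟩, rfl⟩
  obtain ⟨pJ, hpJ⟩ : ∃ pJ : H87.Oct.Delta E, pJ.1 = (Jg, Jg) :=
    ⟨⟨(Jg, Jg), by rw [H87.Oct.mem_Delta]⟩, rfl⟩
  have hc : mapG σ (H87.Oct.phiG pA) = H87.Oct.phiG pA * H87.Oct.phiG pJ := by
    rw [← map_mul]
    refine mapG_phiG σ hσs pA (pA * pJ) ?_ ?_ <;>
      simp only [Subgroup.coe_mul, Prod.fst_mul, Prod.snd_mul, hpA, hpJ, Units.val_mul, hAg, hJg, hσA]
  -- the action of the twist
  have hJinv : ((Jg⁻¹ : GL (Fin 2) E) : Matrix (Fin 2) (Fin 2) E) = !![0, -k⁻¹; k⁻¹, 0] := by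
    rw [Matrix.coe_units_inv, hJg]
    refine Matrix.inv_eq_right_inv ?_
    ext i j; fin_cases i <;> fin_cases j <;> simp [J, Matrix.mul_apply, Fin.sum_univ_two] <;>
      field_simp
  have hs0 : ∀ x : O8 E, ap (H87.Oct.phiG pJ) x = oct (x 7) (fun i => -dn x i) (fun i => -up x i) (x 0) := by
    intro x
    obtain ⟨v, rfl⟩ := (H87.Oct.coord E).surjective x
    rw [ap_phiG_coord, H87.Oct.actLin_apply, hpJ, hJg, hJinv]
    funext i
    fin_cases i <;>
      simp [H87.Oct.coord, oct, up, dn, J, Matrix.mul_apply, Matrix.vecMul, dotProduct, Fin.sum_univ_two, Matrix.vecHead, Matrix.vecTail] <;> field_simp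
  -- a twisted Singer element
  obtain ⟨R, _, _, _, _, Pa, T, hR, hT1, hT2, hT3⟩ := H55.exists_torus_alg (F := E) p hE (e := 3) (by norm_num)
  obtain ⟨S, Ψ, hΨ, hSΨ, -⟩ := H55.exists_suOf hE Pa hR T hT1 hT2
  obtain ⟨P, hP⟩ : ∃ P : Matrix.SpecialLinearGroup (Fin 3) E, P = S.1 := ⟨_, rfl⟩
  have hord : orderOf P = q ^ 2 - q + 1 := by
    have e1 : orderOf P = orderOf (Ψ T) := by
      rw [← hSΨ, hP]
      rw [← orderOf_injective (Matrix.SpecialLinearGroup.toGL) Matrix.SpecialLinearGroup.toGL_injective,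
        ← orderOf_units]
      rfl
    rw [e1, show orderOf (Ψ T) = orderOf T from orderOf_injective Ψ.toRingHom.toMonoidHom hΨ T, hT3]
    simp [H55.uH]
    rw [Nat.mul_sub, mul_one, sq]
  have hherm : ((P : Matrix (Fin 3) (Fin 3) E).map σ)ᵀ * (P : Matrix (Fin 3) (Fin 3) E) = 1 := by
    have h := H55.hstar_mat hE S
    rw [hP]
    simpa [Cfsg.Agent.Unitary.hstar, show (σ : E → E) = fun x => x ^ q from funext hσ] using h
  have hadj : (Matrix.SpecialLinearGroup.map σ P : Matrix (Fin 3) (Fin 3) E).adjugateᵀ = P := by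
    have hd : ((P : Matrix (Fin 3) (Fin 3) E).map σ).det = 1 := (Matrix.SpecialLinearGroup.map σ P).2
    show ((P : Matrix (Fin 3) (Fin 3) E).map σ).adjugateᵀ = _
    have e1 : ((P : Matrix (Fin 3) (Fin 3) E).map σ)ᵀ * ((P : Matrix (Fin 3) (Fin 3) E).map σ).adjugateᵀ = 1 := by
      rw [← Matrix.transpose_mul, Matrix.adjugate_mul, hd, one_smul, Matrix.transpose_one]
    have hu : IsUnit ((P : Matrix (Fin 3) (Fin 3) E).map σ)ᵀ := by
      rw [Matrix.isUnit_iff_isUnit_det, Matrix.det_transpose, hd]; exact isUnit_one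
    exact hu.mul_left_cancel (e1.trans hherm.symm)
  have hcomm : H87.Oct.phiG pJ * slG (Matrix.SpecialLinearGroup.map σ P) = slG P * H87.Oct.phiG pJ := by
    refine ap_injective (LinearMap.ext fun x => ?_)
    obtain ⟨Q, hQ⟩ : ∃ Q, Q = (Matrix.SpecialLinearGroup.map σ P : Matrix (Fin 3) (Fin 3) E) := ⟨_, rfl⟩
    have hdQ : Q.det = 1 := hQ ▸ (Matrix.SpecialLinearGroup.map σ P).2
    have hQP : (P : Matrix (Fin 3) (Fin 3) E).adjugateᵀ = Q := by
      rw [← hadj, ← hQ, ← Matrix.adjugate_transpose, Matrix.transpose_transpose,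
        Matrix.adjugate_adjugate _ (by simp), hdQ, one_pow, one_smul]
    rw [← oct_eta x, ap_mul_apply, ap_mul_apply, ap_slG_oct, hs0, hs0 (oct _ _ _ _), ap_slG_oct]
    simp only [H55.Cover.GTwo.up_oct, H55.Cover.GTwo.dn_oct]
    rw [hQP, hadj, ← hQ]
    show oct _ (-((P : Matrix (Fin 3) (Fin 3) E) *ᵥ dn x)) (-(Q *ᵥ up x)) _ =
      oct _ ((P : Matrix (Fin 3) (Fin 3) E) *ᵥ (-dn x)) (Q *ᵥ (-up x)) _
    rw [Matrix.mulVec_neg, Matrix.mulVec_neg]
    rfl
  obtain ⟨g0, hg0⟩ := exists_mapG hqdef.symm φ σ hσ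
    (H87.Oct.phiG pA * slG P * (H87.Oct.phiG pA)⁻¹) (by
      rw [map_mul, map_mul, map_inv, hc, mapG_slG σ hσs, mul_assoc _ (H87.Oct.phiG pJ), hcomm]
      group)
  refine ⟨g0, ?_⟩
  rw [← orderOf_injective _ (mapG_injective φ), hg0,
    ← MulAut.conj_apply, MulEquiv.orderOf_eq, orderOf_injective _ slG_injective, hord]

/-- The twisted Singer element. -/
theorem exists_order_minus (p : ℕ) [Fact p.Prime] [CharP F p] {n : ℕ} (hn : 1 ≤ n)
    (hF : Fintype.card F = p ^ n) :
    ∃ g : Cfsg.Lie.G2 F, orderOf g = Fintype.card F ^ 2 - Fintype.card F + 1 := by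
  classical
  let : Fintype (FiniteField.Extension F p 2) := Fintype.ofFinite _
  have : CharP (FiniteField.Extension F p 2) p :=
    charP_of_injective_algebraMap (algebraMap F (FiniteField.Extension F p 2)).injective p
  refine exists_order_minus_aux (E := FiniteField.Extension F p 2) p hn hF (algebraMap F _) rfl ?_
  rw [Fintype.card_eq_nat_card, Fintype.card_eq_nat_card]; exact FiniteField.natCard_extension F p 2

end Twisted

end Cfsg.Agent.H14.GTwoOrd
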