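import Cfsg.Agent.H14.GTwoOrd.Upper
import Cfsg.Agent.H14.GTwoOrd.Witness
import Cfsg.Agent.H14.GTwoOrd.Bridge

/-!
# The maximal element orders of `G₂(q)`
-/

set_option autoImplicit false

namespace Cfsg.Agent.H14.GTwoOrd

theorem charP_of_card {F : Type*} [Field F] [Fintype F] {p a : ℕ} (hp : p.Prime) (ha : 1 ≤ a)
    (hF : Fintype.card F = p ^ a) : CharP F p := by
  obtain ⟨p', hp'⟩ := CharP.exists F
  obtain ⟨n, hn, hc⟩ := FiniteField.card F p'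
  rw [hF] at hc
  have e : p = p' := (Nat.prime_dvd_prime_iff_eq hp hn).mp
    (hp.dvd_of_dvd_pow (hc ▸ dvd_pow_self p (by omega)))
  exact e ▸ hp'

/-- In an antichain of orders dominating all orders, the maximal ones are exactly the antichain. -/
theorem maximal_eq {R T : Set ℕ} (hTR : T ⊆ R) (hdom : ∀ n ∈ R, ∃ t ∈ T, n ∣ t)
    (hanti : ∀ t ∈ T, ∀ t' ∈ T, t ∣ t' → t = t') :
    {n : ℕ | n ∈ R ∧ ∀ m ∈ R, n ∣ m → m = n} = T := by
  ext n
  constructor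
  · rintro ⟨hn, hmax⟩
    obtain ⟨t, ht, hd⟩ := hdom n hn
    rw [← hmax t (hTR ht) hd]; exact ht
  · intro hn
    refine ⟨hTR hn, fun m hm hd => ?_⟩
    obtain ⟨t, ht, hd'⟩ := hdom m hm
    have := hanti n hn t ht (hd.trans hd')
    subst this
    exact Nat.dvd_antisymm hd' hd

theorem antichain_odd {p q : ℕ} (hp : p.Prime) (hp2 : p ≠ 2) (hq : p ∣ q) (hq5 : 5 ≤ q) :
    ∀ t ∈ ({p * (q + 1), p * (q - 1), q ^ 2 - 1, q ^ 2 + q + 1, q ^ 2 - q + 1} : Set ℕ) ∪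
        (if p = 3 ∨ p = 5 then ({p ^ 2} : Set ℕ) else ∅),
      ∀ t' ∈ ({p * (q + 1), p * (q - 1), q ^ 2 - 1, q ^ 2 + q + 1, q ^ 2 - q + 1} : Set ℕ) ∪
        (if p = 3 ∨ p = 5 then ({p ^ 2} : Set ℕ) else ∅), t ∣ t' → t = t' := by
  have hp3 : 3 ≤ p := by have := hp.two_le; omega
  have hpq : p ≤ q := Nat.le_of_dvd (by omega) hq
  have hqq : q * 5 ≤ q ^ 2 := by rw [sq]; exact Nat.mul_le_mul_left q hq5
  have hpn : ∀ x, p ∣ x + 1 → p ∣ x → False := fun x h h' =>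
    hp.one_lt.ne' (Nat.dvd_one.mp ((Nat.dvd_add_right h').mp h))
  have hqs : p ∣ q ^ 2 := hq.trans (dvd_pow_self q two_ne_zero)
  have n1 : ¬ p ∣ q + 1 := fun h => hpn q h hq
  have n2 : ¬ p ∣ q - 1 := fun h => hpn (q - 1) (by rwa [Nat.sub_add_cancel (by omega)]) h
  have n3 : ¬ p ∣ q ^ 2 - 1 := fun h => hpn (q ^ 2 - 1) (by rwa [Nat.sub_add_cancel (by omega)]) h
  have n4 : ¬ p ∣ q ^ 2 + q + 1 := fun h => hpn _ h (dvd_add hqs hq)
  have n5 : ¬ p ∣ q ^ 2 - q + 1 := fun h => hpn _ h (Nat.dvd_sub hqs hq)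
  -- a divisor of `p * y` prime to `p` divides `y`
  have cop : ∀ {x y : ℕ}, ¬ p ∣ x → x ∣ p * y → x ∣ y := fun hx h =>
    (Nat.Coprime.dvd_of_dvd_mul_left (Nat.coprime_comm.mp ((hp.coprime_iff_not_dvd).mpr hx)) h)
  have cop2 : ∀ {x : ℕ}, ¬ p ∣ x → x ∣ p ^ 2 → x = 1 := fun hx h => by
    rw [sq] at h
    exact Nat.dvd_one.mp (cop hx (by simpa using cop hx h))
  have psq : ∀ {y : ℕ}, ¬ p ∣ y → ¬ p ^ 2 ∣ p * y := fun hy h => hy (by
    rw [sq] at h; exact Nat.dvd_of_mul_dvd_mul_left hp.pos h)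
  have big : ∀ {x y : ℕ}, 0 < y → y < x → x ∣ y → False := fun h0 h h' =>
    absurd (Nat.le_of_dvd h0 h') (by omega)
  have twice : ∀ {x y : ℕ}, x < y → y < 2 * x → x ∣ y → False := by
    rintro x y h1 h2 ⟨k, rfl⟩
    rcases k with _ | _ | k
    · omega
    · omega
    · have : x * 2 ≤ x * (k + 1 + 1) := Nat.mul_le_mul_left x (by omega)
      omega
  intro t ht t' ht' hd
  have hq0 : q ≤ q ^ 2 := Nat.le_self_pow two_ne_zero q
  have hA : ∀ x, x = q + 1 ∨ x = q - 1 → ¬ p ∣ x := by rintro x (rfl | rfl) <;> assumption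
  have hB : ∀ x, x = q ^ 2 - 1 ∨ x = q ^ 2 + q + 1 ∨ x = q ^ 2 - q + 1 → ¬ p ∣ x := by
    rintro x (rfl | rfl | rfl) <;> assumption
  have cls : ∀ s ∈ ({p * (q + 1), p * (q - 1), q ^ 2 - 1, q ^ 2 + q + 1, q ^ 2 - q + 1} : Set ℕ) ∪
      (if p = 3 ∨ p = 5 then ({p ^ 2} : Set ℕ) else ∅),
      (∃ x, (x = q + 1 ∨ x = q - 1) ∧ s = p * x) ∨
        (s = q ^ 2 - 1 ∨ s = q ^ 2 + q + 1 ∨ s = q ^ 2 - q + 1) ∨ s = p ^ 2 := by
    intro s hs
    simp only [Set.mem_union, Set.mem_insert_iff, Set.mem_singleton_iff] at hs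
    rcases hs with (rfl | rfl | h | h | h) | h
    · exact Or.inl ⟨_, Or.inl rfl, rfl⟩
    · exact Or.inl ⟨_, Or.inr rfl, rfl⟩
    · exact Or.inr (Or.inl (Or.inl h))
    · exact Or.inr (Or.inl (Or.inr (Or.inl h)))
    · exact Or.inr (Or.inl (Or.inr (Or.inr h)))
    · split_ifs at h
      · exact Or.inr (Or.inr (Set.mem_singleton_iff.mp h))
      · exact absurd h (Set.notMem_empty _)
  rcases cls t ht with ⟨x, hx, rfl⟩ | hx | rfl
  · rcases cls t' ht' with ⟨y, hy, rfl⟩ | hy | rfl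
    · have hxy := Nat.dvd_of_mul_dvd_mul_left hp.pos hd
      rcases hx with rfl | rfl <;> rcases hy with rfl | rfl
      · rfl
      · exact (big (by omega) (by omega) hxy).elim
      · exact (twice (by omega) (by omega) hxy).elim
      · rfl
    · exact absurd ((dvd_mul_right p x).trans hd) (hB t' hy)
    · exfalso
      rw [sq] at hd
      rcases (Nat.dvd_prime hp).mp (Nat.dvd_of_mul_dvd_mul_left hp.pos hd) with h | h
      · omega
      · exact hA x hx (h ▸ dvd_refl p)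
  · rcases cls t' ht' with ⟨y, hy, rfl⟩ | hy | rfl
    · exact (big (by omega) (by omega) (cop (hB t hx) hd)).elim
    · rcases hx with rfl | rfl | rfl <;> rcases hy with rfl | rfl | rfl <;>
        first
          | rfl
          | exact (big (by omega) (by omega) hd).elim
          | exact (twice (by omega) (by omega) hd).elim
    · have := cop2 (hB t hx) hd
      omega
  · rcases cls t' ht' with ⟨y, hy, rfl⟩ | hy | rfl
    · exact absurd hd (psq (hA y hy))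
    · exact absurd ((dvd_pow_self p two_ne_zero).trans hd) (hB t' hy)
    · rfl

theorem maximal_odd {F : Type*} [Field F] [Fintype F] {p a : ℕ} (hp : p.Prime) (hp2 : p ≠ 2) (ha : 1 ≤ a)
    (hF : Fintype.card F = p ^ a) (hq5 : 5 ≤ Fintype.card F) :
    {n : ℕ | n ∈ Set.range (orderOf : ↥(Cfsg.Lie.chevG2.group F) → ℕ) ∧
        ∀ m ∈ Set.range (orderOf : ↥(Cfsg.Lie.chevG2.group F) → ℕ), n ∣ m → m = n} =
      ({p * (p ^ a + 1), p * (p ^ a - 1), p ^ (2 * a) - 1, p ^ (2 * a) + p ^ a + 1, p ^ (2 * a) - p ^ a + 1} : Set ℕ) ∪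
        (if p = 3 ∨ p = 5 then ({p ^ 2} : Set ℕ) else ∅) := by
  have : Fact p.Prime := ⟨hp⟩
  have := charP_of_card hp ha hF
  rw [range_orderOf_eq]
  have h2a : p ^ (2 * a) = (p ^ a) ^ 2 := by rw [← pow_mul, mul_comm]
  rw [h2a]
  rw [hF] at hq5
  refine maximal_eq ?_ ?_ (antichain_odd hp hp2 (dvd_pow_self p (by omega)) hq5)
  · intro t ht
    simp only [Set.mem_union, Set.mem_insert_iff, Set.mem_singleton_iff] at ht
    rcases ht with (rfl | rfl | rfl | rfl | rfl) | ht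
    · obtain ⟨g, hg⟩ := exists_order_p_add (F := F) p ha hF; exact ⟨g, by rw [hg, hF]⟩
    · obtain ⟨g, hg⟩ := exists_order_p_sub (F := F) p ha hF; exact ⟨g, by rw [hg, hF]⟩
    · obtain ⟨g, hg⟩ := exists_order_sq (F := F); exact ⟨g, by rw [hg, hF]⟩
    · obtain ⟨g, hg⟩ := exists_order_plus (F := F); exact ⟨g, by rw [hg, hF]⟩
    · obtain ⟨g, hg⟩ := exists_order_minus (F := F) p ha hF; exact ⟨g, by rw [hg, hF]⟩
    · split_ifs at ht with h35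
      · rw [Set.mem_singleton_iff] at ht
        subst ht
        rcases h35 with rfl | rfl
        · exact (exists_order_unip (F := F)).2.2.1 ‹_›
        · exact (exists_order_unip (F := F)).2.2.2 ‹_›
      · simp at ht
  · rintro _ ⟨g, rfl⟩
    simp only [Set.mem_union, Set.mem_insert_iff, Set.mem_singleton_iff]
    rcases upper ha hF g with h | h | h | h | h | ⟨h, h35⟩ | ⟨h, -⟩
    · exact ⟨_, Or.inl (Or.inr (Or.inr (Or.inl rfl))), h⟩
    · exact ⟨_, Or.inl (Or.inr (Or.inr (Or.inr (Or.inl rfl)))), h⟩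
    · exact ⟨_, Or.inl (Or.inr (Or.inr (Or.inr (Or.inr rfl)))), h⟩
    · exact ⟨_, Or.inl (Or.inr (Or.inl rfl)), h⟩
    · exact ⟨_, Or.inl (Or.inl rfl), h⟩
    · exact ⟨p ^ 2, Or.inr (by rw [if_pos h35]; rfl), h⟩
    · exact absurd h hp2

theorem maximal_two {F : Type*} [Field F] [Fintype F] {a : ℕ} (ha : 2 ≤ a) (hF : Fintype.card F = 2 ^ a) :
    {n : ℕ | n ∈ Set.range (orderOf : ↥(Cfsg.Lie.chevG2.group F) → ℕ) ∧
        ∀ m ∈ Set.range (orderOf : ↥(Cfsg.Lie.chevG2.group F) → ℕ), n ∣ m → m = n} ⊆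
      ({8, 12, 2 * (2 ^ a + 1), 2 * (2 ^ a - 1), 2 ^ (2 * a) - 1, 2 ^ (2 * a) + 2 ^ a + 1,
        2 ^ (2 * a) - 2 ^ a + 1} : Set ℕ) ∧
    ({8, 12, 2 * (2 ^ a + 1), 2 * (2 ^ a - 1), 2 ^ (2 * a) - 1, 2 ^ (2 * a) + 2 ^ a + 1,
        2 ^ (2 * a) - 2 ^ a + 1} : Set ℕ) ⊆ Set.range (orderOf : ↥(Cfsg.Lie.chevG2.group F) → ℕ) := by
  have : Fact (Nat.Prime 2) := ⟨Nat.prime_two⟩
  have := charP_of_card Nat.prime_two (by omega : 1 ≤ a) hF
  rw [range_orderOf_eq]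
  have h2a : 2 ^ (2 * a) = (2 ^ a) ^ 2 := by rw [← pow_mul, mul_comm]
  rw [h2a]
  have ha1 : 1 ≤ a := by omega
  have hsub : ({8, 12, 2 * (2 ^ a + 1), 2 * (2 ^ a - 1), (2 ^ a) ^ 2 - 1, (2 ^ a) ^ 2 + 2 ^ a + 1,
      (2 ^ a) ^ 2 - 2 ^ a + 1} : Set ℕ) ⊆ Set.range (orderOf : ↥(Cfsg.Lie.G2 F) → ℕ) := by
    intro t ht
    simp only [Set.mem_insert_iff, Set.mem_singleton_iff] at ht
    rcases ht with rfl | rfl | rfl | rfl | rfl | rfl | rfl
    · exact (exists_order_unip (F := F)).1 ‹_›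
    · exact (exists_order_unip (F := F)).2.1 ‹_›
    · obtain ⟨g, hg⟩ := exists_order_p_add (F := F) 2 ha1 hF; exact ⟨g, by rw [hg, hF]⟩
    · obtain ⟨g, hg⟩ := exists_order_p_sub (F := F) 2 ha1 hF; exact ⟨g, by rw [hg, hF]⟩
    · obtain ⟨g, hg⟩ := exists_order_sq (F := F); exact ⟨g, by rw [hg, hF]⟩
    · obtain ⟨g, hg⟩ := exists_order_plus (F := F); exact ⟨g, by rw [hg, hF]⟩
    · obtain ⟨g, hg⟩ := exists_order_minus (F := F) 2 ha1 hF; exact ⟨g, by rw [hg, hF]⟩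
  refine ⟨?_, hsub⟩
  rintro n ⟨⟨g, rfl⟩, hmax⟩
  obtain ⟨t, ht, hd⟩ : ∃ t ∈ ({8, 12, 2 * (2 ^ a + 1), 2 * (2 ^ a - 1), (2 ^ a) ^ 2 - 1,
      (2 ^ a) ^ 2 + 2 ^ a + 1, (2 ^ a) ^ 2 - 2 ^ a + 1} : Set ℕ), orderOf g ∣ t := by
    simp only [Set.mem_insert_iff, Set.mem_singleton_iff]
    rcases upper ha1 hF g with h | h | h | h | h | ⟨-, h | h⟩ | ⟨-, h | h⟩
    · exact ⟨_, Or.inr (Or.inr (Or.inr (Or.inr (Or.inl rfl)))), h⟩
    · exact ⟨_, Or.inr (Or.inr (Or.inr (Or.inr (Or.inr (Or.inl rfl))))), h⟩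
    · exact ⟨_, Or.inr (Or.inr (Or.inr (Or.inr (Or.inr (Or.inr rfl))))), h⟩
    · exact ⟨_, Or.inr (Or.inr (Or.inr (Or.inl rfl))), h⟩
    · exact ⟨_, Or.inr (Or.inr (Or.inl rfl)), h⟩
    · omega
    · omega
    · exact ⟨_, Or.inl rfl, h⟩
    · exact ⟨_, Or.inr (Or.inl rfl), h⟩
  rw [← hmax t (hsub ht) hd]
  exact ht

end Cfsg.Agent.H14.GTwoOrd
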