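import Cfsg.Agent.H14.GTwoOrd.Arith
import Cfsg.Agent.H14.GTwoOrd.Unip

/-!
# Upper bounds for the element orders of `G₂(q)`
-/

set_option autoImplicit false

namespace Cfsg.Agent.H14.GTwoOrd

open Cfsg.Agent.H55.Cover.GTwo (oct)

/-- The list of bounds. -/
def Bound (p q n : ℕ) : Prop :=
  n ∣ q ^ 2 - 1 ∨ n ∣ q ^ 2 + q + 1 ∨ n ∣ q ^ 2 - q + 1 ∨ n ∣ p * (q - 1) ∨ n ∣ p * (q + 1) ∨
    (n ∣ p ^ 2 ∧ (p = 3 ∨ p = 5)) ∨ (p = 2 ∧ (n ∣ 8 ∨ n ∣ 12))

variable {K : Type*} [Field K]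

theorem d8_eq (l : Fin 3 → K) (h : l 0 * l 1 * l 2 = 1) :
    d8 l = ![1, l 0, l 1, l 2, (l 0)⁻¹, (l 1)⁻¹, (l 2)⁻¹, 1] := by
  have e0 : l 1 * l 2 = (l 0)⁻¹ := eq_inv_of_mul_eq_one_right (by rw [← mul_assoc, h])
  have e1 : l 0 * l 2 = (l 1)⁻¹ := eq_inv_of_mul_eq_one_left (by rw [mul_right_comm, h])
  have e2 : l 0 * l 1 = (l 2)⁻¹ := eq_inv_of_mul_eq_one_left h
  rw [d8, e0, e1, e2]

theorem diag3_pow_eq_one {l : Fin 3 → K} {h : l 0 * l 1 * l 2 = 1} {N : ℕ} (hN : ∀ i, l i ^ N = 1) :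
    diag3 l h ^ N = 1 := by
  apply Subtype.ext
  rw [Matrix.SpecialLinearGroup.coe_pow, Matrix.SpecialLinearGroup.coe_one]
  show Matrix.diagonal l ^ N = 1
  rw [Matrix.diagonal_pow, ← Matrix.diagonal_one]
  exact congrArg Matrix.diagonal (funext hN)

/-- The indices of the upper vector. -/
def ia : Fin 3 → Fin 8 := ![1, 2, 3]

/-- The indices of the lower vector. -/
def ib : Fin 3 → Fin 8 := ![4, 5, 6]

theorem oct_ia (i : Fin 3) : oct (0 : K) (Pi.single i 1) 0 0 = Pi.single (ia i) 1 := by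
  funext r; fin_cases i <;> fin_cases r <;> simp [oct, ia]

theorem oct_ib (i : Fin 3) : oct (0 : K) 0 (Pi.single i 1) 0 = Pi.single (ib i) 1 := by
  funext r; fin_cases i <;> fin_cases r <;> simp [oct, ib]

theorem eq_one_of_single (k : Fin 3) (w : Cfsg.Lie.G2 K)
    (h : ∀ i, i ≠ k → ap w (Pi.single (ia i) 1) = Pi.single (ia i) 1 ∧
      ap w (Pi.single (ib i) 1) = Pi.single (ib i) 1) : w = 1 :=
  eq_one_of_fix k w fun i hi => by rw [oct_ia, oct_ib]; exact h i hi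

theorem idx_cases (l : Fin 3 → K) (h : l 0 * l 1 * l 2 = 1) (r : Fin 8) :
    d8 l r = 1 ∨ ∃ j, (r = ia j ∧ d8 l r = l j) ∨ (r = ib j ∧ d8 l r = (l j)⁻¹) := by
  rw [d8_eq l h]
  fin_cases r
  · exact Or.inl rfl
  · exact Or.inr ⟨0, Or.inl ⟨rfl, rfl⟩⟩
  · exact Or.inr ⟨1, Or.inl ⟨rfl, rfl⟩⟩
  · exact Or.inr ⟨2, Or.inl ⟨rfl, rfl⟩⟩
  · exact Or.inr ⟨0, Or.inr ⟨rfl, rfl⟩⟩
  · exact Or.inr ⟨1, Or.inr ⟨rfl, rfl⟩⟩
  · exact Or.inr ⟨2, Or.inr ⟨rfl, rfl⟩⟩
  · exact Or.inl rfl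

theorem d8_ia (l : Fin 3 → K) (j : Fin 3) : d8 l (ia j) = l j := by fin_cases j <;> rfl

theorem d8_ib (l : Fin 3 → K) (h : l 0 * l 1 * l 2 = 1) (j : Fin 3) : d8 l (ib j) = (l j)⁻¹ := by
  rw [d8_eq l h]; fin_cases j <;> rfl

variable {p : ℕ} [Fact p.Prime] [CharP K p] {e : ℕ}

theorem regular_case (U : Cfsg.Lie.G2 K) (l : Fin 3 → K) (h : l 0 * l 1 * l 2 = 1)
    (hc : Commute U (slG (diag3 l h))) (hU : U ^ p ^ e = 1) (h1 : ∀ i, l i ≠ 1)
    (hne : ∀ i j, i ≠ j → l i ≠ l j ∧ l i ≠ (l j)⁻¹) : U = 1 := by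
  obtain ⟨k, hk⟩ : ∃ k, ∀ i, i ≠ k → l i ≠ (l i)⁻¹ := by
    by_cases hex : ∃ k, l k = (l k)⁻¹
    · obtain ⟨k, hk⟩ := hex
      refine ⟨k, fun i hi he => ?_⟩
      have sq : ∀ j, l j = (l j)⁻¹ → l j = -1 := fun j hj => by
        have h0 : l j ≠ 0 := fun e0 => one_ne_zero (α := K) (by
          rw [← h, ← Fin.prod_univ_three]; exact Finset.prod_eq_zero (Finset.mem_univ j) e0)
        have : l j * l j = 1 := by nth_rw 2 [hj]; exact mul_inv_cancel₀ h0
        exact (mul_self_eq_one_iff.mp this).resolve_left (h1 j)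
      exact (hne i k hi).1 ((sq i he).trans (sq k hk).symm)
    · exact ⟨0, fun i _ he => hex ⟨i, he⟩⟩
  refine eq_one_of_single k U fun i hi => ?_
  have hi' := hk i hi
  constructor
  · have := fix_of_class hc hU (ia i) {ia i} (fun r hr => ?_) (k := 0) (by simp)
    · rwa [pow_zero, pow_one] at this
    rw [Finset.mem_singleton]
    rw [d8_ia] at hr
    rcases idx_cases l h r with e0 | ⟨j, ⟨er, e0⟩ | ⟨er, e0⟩⟩ <;> rw [e0] at hr
    · exact absurd hr.symm (h1 i)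
    · by_cases hj : j = i
      · rw [er, hj]
      · exact absurd hr (hne j i hj).1
    · by_cases hj : j = i
      · subst hj; exact absurd hr.symm hi'
      · exact absurd hr.symm (hne i j (Ne.symm hj)).2
  · have := fix_of_class hc hU (ib i) {ib i} (fun r hr => ?_) (k := 0) (by simp)
    · rwa [pow_zero, pow_one] at this
    rw [Finset.mem_singleton]
    rw [d8_ib l h] at hr
    rcases idx_cases l h r with e0 | ⟨j, ⟨er, e0⟩ | ⟨er, e0⟩⟩ <;> rw [e0] at hr
    · exact absurd (inv_eq_one.mp hr.symm) (h1 i)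
    · by_cases hj : j = i
      · subst hj; exact absurd hr hi'
      · exact absurd hr (hne j i hj).2
    · by_cases hj : j = i
      · rw [er, hj]
      · exact absurd (inv_inj.mp hr) (hne j i hj).1

/-- The subspace of the eigenvalue `-1`. -/
def W4 (K : Type*) [Field K] : Submodule K (O8 K) :=
  LinearMap.ker (LinearMap.pi fun i : Fin 4 => LinearMap.proj (![0, 3, 6, 7] i))

theorem fixed_case (U : Cfsg.Lie.G2 K) (l : Fin 3 → K) (h : l 0 * l 1 * l 2 = 1)
    (hc : Commute U (slG (diag3 l h))) (hU : U ^ p ^ e = 1) (hx : l 0 ≠ 1) (h2 : l 2 = 1) :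
    U ^ p = 1 := by
  have hx0 : l 0 ≠ 0 := fun e0 => by simp [e0] at h
  have h1 : l 1 = (l 0)⁻¹ := eq_inv_of_mul_eq_one_right (by rw [h2, mul_one] at h; exact h)
  have hpp := (Fact.out : p.Prime).two_le
  have hd : d8 l = ![1, l 0, (l 0)⁻¹, 1, (l 0)⁻¹, l 0, 1, 1] := by
    rw [d8_eq l h, h1, h2, inv_inv, inv_one]
  have hx' : (l 0)⁻¹ ≠ 1 := by simpa using hx
  by_cases hs : l 0 = (l 0)⁻¹
  · have hsq : l 0 * l 0 = 1 := by nth_rw 2 [hs]; exact mul_inv_cancel₀ hx0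
    have hm1 : l 0 = -1 := (mul_self_eq_one_iff.mp hsq).resolve_left hx
    have h20 : (2 : K) ≠ 0 := fun e0 => hx (by linear_combination hm1 - e0)
    have hp2 : p ≠ 2 := fun e0 => h20 (by subst e0; exact CharP.cast_eq_zero K 2)
    rw [← hs] at hd
    by_cases hp3 : p = 3
    · subst hp3
      refine eq_one_of_single 2 _ fun i hi => ?_
      have hW : ∀ x ∈ W4 K, (ap U - 1) x ∈ W4 K := by
        intro x hx4
        have hz : ∀ j : Fin 4, x (![0, 3, 6, 7] j) = 0 := fun j => congrFun (LinearMap.mem_ker.mp hx4) j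
        refine LinearMap.mem_ker.mpr (funext fun j => ?_)
        show (ap U - 1) x (![0, 3, 6, 7] j) = 0
        rw [LinearMap.sub_apply, Module.End.one_apply, Pi.sub_apply, hz, sub_zero]
        conv_lhs => rw [pi_eq_sum_univ' x, map_sum]
        rw [Finset.sum_apply]
        refine Finset.sum_eq_zero fun r _ => ?_
        rw [map_smul, Pi.smul_apply, smul_eq_mul]
        by_cases hr : d8 l r = 1
        · have : x r = 0 := by
            have h0 := hz 0; have h3 := hz 1; have h6 := hz 2; have h7 := hz 3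
            rw [hd] at hr
            fin_cases r <;> simp at hr h0 h3 h6 h7 ⊢ <;> first | assumption | exact absurd hr hx
          rw [this, zero_mul]
        · rw [entry_zero hc (fun e0 => hr ?_), mul_zero]
          rw [← e0, hd]; fin_cases j <;> rfl
      have hdim : Module.finrank K (W4 K) ≤ 4 := by
        have := (LinearMap.pi fun i : Fin 4 =>
          (LinearMap.proj (![0, 3, 6, 7] i) : O8 K →ₗ[K] K)).finrank_range_add_finrank_ker
        rw [LinearMap.range_eq_top.mpr (fun v => ⟨![v 0, 0, 0, v 1, 0, 0, v 2, v 3], by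
            funext i; fin_cases i <;> simp⟩), finrank_top, Module.finrank_fin_fun,
          Module.finrank_fin_fun] at this
        show Module.finrank K (W4 K) ≤ 4
        change 4 + Module.finrank K (W4 K) = 8 at this
        omega
      have hnd : ∀ x ∈ W4 K, (∀ y ∈ W4 K, bil x y = 0) → x = 0 := by
        intro x hx4 hy
        have hmem : ∀ r : Fin 8, r = 1 ∨ r = 2 ∨ r = 4 ∨ r = 5 → (Pi.single r 1 : O8 K) ∈ W4 K := by
          intro r hr
          refine LinearMap.mem_ker.mpr (funext fun j => ?_)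
          rcases hr with rfl | rfl | rfl | rfl <;> fin_cases j <;> simp
        have hz : ∀ j : Fin 4, x (![0, 3, 6, 7] j) = 0 := fun j => congrFun (LinearMap.mem_ker.mp hx4) j
        have e1 := hy _ (hmem 4 (by simp)); have e2 := hy _ (hmem 5 (by simp))
        have e4 := hy _ (hmem 1 (by simp)); have e5 := hy _ (hmem 2 (by simp))
        simp [bil] at e1 e2 e4 e5
        funext r
        fin_cases r
        · exact hz 0
        · exact e1
        · exact e2
        · exact hz 1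
        · exact e4
        · exact e5
        · exact hz 2
        · exact hz 3
      have fix : ∀ r : Fin 8, r = 1 ∨ r = 2 ∨ r = 4 ∨ r = 5 →
          ap (U ^ 3) (Pi.single r 1) = Pi.single r 1 := by
        intro r hr
        have := cube_zero h20 (sub_one_nil hU) (W4 K) hW hdim hnd (v := Pi.single r 1)
          (LinearMap.mem_ker.mpr (funext fun j => by
            rcases hr with rfl | rfl | rfl | rfl <;> fin_cases j <;> simp))
        rw [show (3 : ℕ) = 3 ^ 1 from rfl, sub_one_pow (p := 3), LinearMap.sub_apply,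
          Module.End.one_apply, sub_eq_zero] at this
        exact this
      constructor
      · exact fix _ (by fin_cases i <;> simp [ia] at hi ⊢)
      · exact fix _ (by fin_cases i <;> simp [ib] at hi ⊢)
    · have hp5 : 4 ≤ p := by omega
      refine eq_one_of_single 2 _ fun i hi => ?_
      have fix : ∀ j : Fin 8, d8 l j = l 0 → ap (U ^ p) (Pi.single j 1) = Pi.single j 1 := by
        intro j hj
        have := fix_of_class hc hU j {1, 2, 4, 5} (fun r hr => ?_) (k := 1) (by simpa using hp5)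
        · rwa [pow_one] at this
        rw [hj, hd] at hr
        fin_cases r <;> simp at hr ⊢ <;> exact absurd hr.symm hx
      constructor
      · exact fix _ (by rw [hd]; fin_cases i <;> simp [ia] at hi ⊢)
      · exact fix _ (by rw [hd]; fin_cases i <;> simp [ib] at hi ⊢)
  · refine eq_one_of_single 2 _ fun i hi => ?_
    have fix : ∀ (j : Fin 8) (S : Finset (Fin 8)), S.card ≤ 2 → (∀ r, d8 l r = d8 l j → r ∈ S) →
        ap (U ^ p) (Pi.single j 1) = Pi.single j 1 := by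
      intro j S hS hr
      have := fix_of_class hc hU j S hr (k := 1) (by rw [pow_one]; omega)
      rwa [pow_one] at this
    constructor
    · refine fix _ (if i = 0 then {1, 5} else {2, 4}) (by fin_cases i <;> simp) fun r hr => ?_
      rw [hd] at hr
      fin_cases i <;> fin_cases r <;> simp [ia] at hr hi ⊢ <;> first | exact hx hr.symm | exact hx hr | exact hx' hr.symm | exact hs hr | exact hs hr.symm
    · refine fix _ (if i = 1 then {1, 5} else {2, 4}) (by fin_cases i <;> simp) fun r hr => ?_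
      rw [hd] at hr
      fin_cases i <;> fin_cases r <;> simp [ib] at hr hi ⊢ <;> first | exact hx hr.symm | exact hx hr | exact hx' hr.symm | exact hs hr | exact hs hr.symm

theorem double_case (U : Cfsg.Lie.G2 K) (l : Fin 3 → K) (h : l 0 * l 1 * l 2 = 1)
    (hc : Commute U (slG (diag3 l h))) (hU : U ^ p ^ e = 1) (hx : l 0 ≠ 1) (h1 : l 1 = l 0)
    (h2 : l 2 ≠ 1) : U ^ p = 1 ∨ (p = 2 ∧ U ^ 4 = 1 ∧ ∀ i, l i ^ 3 = 1) := by
  have hx0 : l 0 ≠ 0 := fun e0 => by simp [e0] at h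
  have hpp := (Fact.out : p.Prime).two_le
  have hy : l 2 = (l 0 * l 0)⁻¹ := eq_inv_of_mul_eq_one_right (by rw [← h]; rw [h1])
  have hd : d8 l = ![1, l 0, l 0, (l 0 * l 0)⁻¹, (l 0)⁻¹, (l 0)⁻¹, l 0 * l 0, 1] := by
    rw [d8_eq l h, hy, h1, inv_inv]
  have hxx : l 0 * l 0 ≠ 1 := fun e0 => h2 (by rw [hy, e0, inv_one])
  have hne : l 0 ≠ (l 0)⁻¹ := fun e0 => hxx (by nth_rw 2 [e0]; exact mul_inv_cancel₀ hx0)
  have hne2 : l 0 * l 0 ≠ l 0 := fun e0 => hx (mul_right_cancel₀ hx0 (by rw [one_mul]; exact e0))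
  have hx' : (l 0)⁻¹ ≠ 1 := by simpa using hx
  have hne2' : (l 0)⁻¹ ≠ (l 0 * l 0)⁻¹ := fun e0 => hne2 (inv_inj.mp e0).symm
  have fix : ∀ (k c : ℕ), c ≤ p ^ k → (∀ j : Fin 8, (d8 l j = l 0 ∨ d8 l j = (l 0)⁻¹) →
      ∃ S : Finset (Fin 8), S.card ≤ c ∧ ∀ r, d8 l r = d8 l j → r ∈ S) → U ^ p ^ k = 1 := by
    intro k c hck hS
    refine eq_one_of_single 2 _ fun i hi => ?_
    constructor <;> refine (fun ⟨S, hcard, hr⟩ => fix_of_class hc hU _ S hr (hcard.trans hck)) (hS _ ?_)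
    · left; rw [hd]; fin_cases i <;> simp [ia] at hi ⊢
    · right; rw [hd]; fin_cases i <;> simp [ib] at hi ⊢
  by_cases h3 : l 0 * l 0 * l 0 = 1
  · have key : ∀ j : Fin 8, (d8 l j = l 0 ∨ d8 l j = (l 0)⁻¹) →
        ∃ S : Finset (Fin 8), S.card ≤ 3 ∧ ∀ r, d8 l r = d8 l j → r ∈ S := by
      rintro j (hj | hj) <;> rw [hj]
      · refine ⟨{1, 2, 3}, by simp, fun r hr => ?_⟩
        rw [hd] at hr
        fin_cases r <;> simp [-mul_inv_rev] at hr ⊢ <;> first
          | exact hx hr | exact hx hr.symm | exact hx' hr | exact hx' hr.symm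
          | exact hne hr | exact hne hr.symm | exact hne2 hr | exact hne2 hr.symm
          | exact hne2' hr | exact hne2' hr.symm

      · refine ⟨{4, 5, 6}, by simp, fun r hr => ?_⟩
        rw [hd] at hr
        fin_cases r <;> simp [-mul_inv_rev] at hr ⊢ <;> first
          | exact hx hr | exact hx hr.symm | exact hx' hr | exact hx' hr.symm
          | exact hne hr | exact hne hr.symm | exact hne2 hr | exact hne2 hr.symm
          | exact hne2' hr | exact hne2' hr.symm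

    by_cases hp2 : p = 2
    · refine Or.inr ⟨hp2, ?_, fun i => ?_⟩
      · have := fix 2 3 (by rw [hp2]; norm_num) key
        rw [hp2] at this; exact this
      · fin_cases i
        · show l 0 ^ 3 = 1; rw [pow_three, ← mul_assoc]; exact h3
        · show l 1 ^ 3 = 1; rw [h1, pow_three, ← mul_assoc]; exact h3
        · show l 2 ^ 3 = 1
          rw [hy, inv_pow, show (l 0 * l 0) ^ 3 = (l 0 * l 0 * l 0) * (l 0 * l 0 * l 0) by ring, h3,
            one_mul, inv_one]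
    · left
      have hp3 : p ≠ 3 := fun e0 => hx (by
        subst e0
        have h30 : (3 : K) = 0 := by exact_mod_cast CharP.cast_eq_zero K 3
        have : (l 0 - 1) ^ 3 = 0 := by linear_combination h3 + (-l 0 * l 0 + l 0) * h30
        exact sub_eq_zero.mp ((pow_eq_zero_iff three_ne_zero).mp this))
      simpa using fix 1 3 (by rw [pow_one]; omega) key
  · left
    have hne3 : (l 0 * l 0)⁻¹ ≠ l 0 := fun e0 => h3 (by
      nth_rw 3 [← e0]; exact mul_inv_cancel₀ (mul_ne_zero hx0 hx0))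
    have hne3' : (l 0)⁻¹ ≠ l 0 * l 0 := fun e0 => hne3 (by rw [← e0, inv_inv])
    simpa using fix 1 2 (by rw [pow_one]; omega) (by
      rintro j (hj | hj) <;> rw [hj]
      · refine ⟨{1, 2}, by simp, fun r hr => ?_⟩
        rw [hd] at hr
        fin_cases r <;> simp [-mul_inv_rev] at hr ⊢ <;> first
          | exact hx hr | exact hx hr.symm | exact hx' hr | exact hx' hr.symm
          | exact hne hr | exact hne hr.symm | exact hne2 hr | exact hne2 hr.symm
          | exact hne2' hr | exact hne2' hr.symm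
          | exact hne3 hr | exact hne3 hr.symm | exact hne3' hr | exact hne3' hr.symm
      · refine ⟨{4, 5}, by simp, fun r hr => ?_⟩
        rw [hd] at hr
        fin_cases r <;> simp [-mul_inv_rev] at hr ⊢ <;> first
          | exact hx hr | exact hx hr.symm | exact hx' hr | exact hx' hr.symm
          | exact hne hr | exact hne hr.symm | exact hne2 hr | exact hne2 hr.symm
          | exact hne2' hr | exact hne2' hr.symm
          | exact hne3 hr | exact hne3 hr.symm | exact hne3' hr | exact hne3' hr.symm)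

theorem trivial_case (U : Cfsg.Lie.G2 K) (hU : U ^ p ^ e = 1) :
    U ^ p = 1 ∨ ((p = 3 ∨ p = 5) ∧ U ^ p ^ 2 = 1) ∨ (p = 2 ∧ U ^ 8 = 1) := by
  have hpp := (Fact.out : p.Prime).two_le
  have hc : Commute U (slG (diag3 (1 : Fin 3 → K) (by simp))) := by
    rw [show diag3 (1 : Fin 3 → K) _ = 1 from Subtype.ext (by simp [diag3]), map_one]
    exact Commute.one_right _
  have all : ∀ k, 8 ≤ p ^ k → U ^ p ^ k = 1 := fun k hk => eq_one_of_single 0 _ fun i _ =>
    ⟨fix_of_class hc hU _ Finset.univ (fun r _ => Finset.mem_univ r) (by simpa using hk),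
      fix_of_class hc hU _ Finset.univ (fun r _ => Finset.mem_univ r) (by simpa using hk)⟩
  by_cases h8 : 8 ≤ p
  · exact Or.inl (by simpa using all 1 (by simpa using h8))
  have hpr : p.Prime := Fact.out
  interval_cases p
  · exact Or.inr (Or.inr ⟨rfl, all 3 le_rfl⟩)
  · exact Or.inr (Or.inl ⟨Or.inl rfl, all 2 (by norm_num)⟩)
  · norm_num at hpr
  · exact Or.inr (Or.inl ⟨Or.inr rfl, all 2 (by norm_num)⟩)
  · norm_num at hpr
  · left
    have h20 : (2 : K) ≠ 0 := fun e0 => by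
      have := (CharP.cast_eq_zero_iff K 7 2).mp (by exact_mod_cast e0)
      omega
    have h7 := seventh_zero h20 (sub_one_nil hU)
    have e7 := sub_one_pow (p := 7) U 1
    rw [pow_one, h7] at e7
    exact ap_injective (by rw [ap_one]; exact sub_eq_zero.mp e7.symm)

theorem pm_of_pr {x y : K} {q : ℕ} (hx : x ≠ 0) (hy : y ≠ 0) (h : pr (x ^ q) = pr y) :
    x ^ q = y ∨ x ^ q = y⁻¹ := pr_cases (pow_ne_zero q hx) hy h

/-- The order of a semisimple element. -/
theorem semisimple_case {q : ℕ} (hq : 1 ≤ q) (hpar : Odd q ∨ (2 : K) = 0) (l : Fin 3 → K)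
    (h : l 0 * l 1 * l 2 = 1)
    (hf : pr (l 0 ^ q) ::ₘ pr (l 1 ^ q) ::ₘ {pr (l 2 ^ q)} =
      pr (l 0) ::ₘ pr (l 1) ::ₘ ({pr (l 2)} : Multiset K)) :
    ∃ N, (N = q ^ 2 - 1 ∨ N = q ^ 2 + q + 1 ∨ N = q ^ 2 - q + 1) ∧ ∀ i, l i ^ N = 1 := by
  have h0 : l 0 ≠ 0 := fun e0 => by simp [e0] at h
  have h1 : l 1 ≠ 0 := fun e0 => by simp [e0] at h
  have h2 : l 2 ≠ 0 := fun e0 => by simp [e0] at h
  have fin : ∀ {N : ℕ}, l 0 ^ N = 1 → l 1 ^ N = 1 → l 2 ^ N = 1 → ∀ i, l i ^ N = 1 := by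
    intro N a b c i; fin_cases i <;> assumption
  have one : (l 0 ^ (q ^ 2 - 1) = 1 ∧ l 1 ^ (q ^ 2 - 1) = 1 ∧ l 2 ^ (q ^ 2 - 1) = 1) →
      ∃ N, (N = q ^ 2 - 1 ∨ N = q ^ 2 + q + 1 ∨ N = q ^ 2 - q + 1) ∧ ∀ i, l i ^ N = 1 :=
    fun ⟨a, b, c⟩ => ⟨_, Or.inl rfl, fin a b c⟩
  rcases three_perm hf with ⟨a, b, c⟩ | ⟨a, b, c⟩ | ⟨a, b, c⟩ | ⟨a, b, c⟩ | ⟨a, b, c⟩ | ⟨a, b, c⟩
  · exact one ⟨sq_fix h0 hq (pm_of_pr h0 h0 a), sq_fix h1 hq (pm_of_pr h1 h1 b),
      sq_fix h2 hq (pm_of_pr h2 h2 c)⟩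
  · exact one (trans_fix hq hpar h (pm_of_pr h0 h1 a) (pm_of_pr h1 h0 b) (pm_of_pr h2 h2 c))
  · obtain ⟨x, z, y⟩ := trans_fix hq hpar (a := l 0) (b := l 2) (c := l 1) (by rw [← h]; ring)
      (pm_of_pr h0 h2 a) (pm_of_pr h2 h0 c) (pm_of_pr h1 h1 b)
    exact one ⟨x, y, z⟩
  · obtain ⟨y, z, x⟩ := trans_fix hq hpar (a := l 1) (b := l 2) (c := l 0) (by rw [← h]; ring)
      (pm_of_pr h1 h2 b) (pm_of_pr h2 h1 c) (pm_of_pr h0 h0 a)
    exact one ⟨x, y, z⟩
  · rcases cycle_fix hq hpar h (pm_of_pr h0 h1 a) (pm_of_pr h1 h2 b) (pm_of_pr h2 h0 c) with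
      t | ⟨x, y, z⟩ | ⟨x, y, z⟩
    · exact one t
    · exact ⟨_, Or.inr (Or.inl rfl), fin x y z⟩
    · exact ⟨_, Or.inr (Or.inr rfl), fin x y z⟩
  · rcases cycle_fix hq hpar (a := l 0) (b := l 2) (c := l 1) (by rw [← h]; ring) (pm_of_pr h0 h2 a)
      (pm_of_pr h2 h1 c) (pm_of_pr h1 h0 b) with ⟨x, z, y⟩ | ⟨x, z, y⟩ | ⟨x, z, y⟩
    · exact one ⟨x, y, z⟩
    · exact ⟨_, Or.inr (Or.inl rfl), fin x y z⟩
    · exact ⟨_, Or.inr (Or.inr rfl), fin x y z⟩

/-- With a repeated eigenvalue the semisimple order divides `q - 1` or `q + 1`. -/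
theorem singular_case {q : ℕ} (hq : 1 ≤ q) (l : Fin 3 → K) (h : l 0 * l 1 * l 2 = 1)
    (hf : pr (l 0 ^ q) ::ₘ pr (l 1 ^ q) ::ₘ {pr (l 2 ^ q)} =
      pr (l 0) ::ₘ pr (l 1) ::ₘ ({pr (l 2)} : Multiset K))
    (hsing : l 2 = 1 ∨ l 1 = l 0) :
    ∃ N, (N = q - 1 ∨ N = q + 1) ∧ ∀ i, l i ^ N = 1 := by
  have h0 : l 0 ≠ 0 := fun e0 => by simp [e0] at h
  have h1 : l 1 ≠ 0 := fun e0 => by simp [e0] at h
  have h2 : l 2 ≠ 0 := fun e0 => by simp [e0] at h
  have key : l 0 ^ q = l 0 ∨ l 0 ^ q = (l 0)⁻¹ := by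
    rcases hsing with e2 | e1
    · have e1 : pr (l 1) = pr (l 0) := by
        have : l 1 = (l 0)⁻¹ := eq_inv_of_mul_eq_one_right (by rw [e2, mul_one] at h; exact h)
        rw [this, pr_inv]
      have hmem : pr (l 0 ^ q) ∈ pr (l 0) ::ₘ pr (l 1) ::ₘ ({pr (l 2)} : Multiset K) :=
        hf ▸ Multiset.mem_cons_self _ _
      simp only [Multiset.mem_cons, Multiset.mem_singleton, e1] at hmem
      rcases hmem with hm | hm | hm
      · exact pm_of_pr h0 h0 hm
      · exact pm_of_pr h0 h0 hm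
      · have e : l 0 ^ q = 1 := by
          have := pm_of_pr h0 h2 hm
          rw [e2, inv_one, or_self] at this
          exact this
        rcases Nat.eq_zero_or_pos q with hz | _
        · omega
        have hmem1 : pr (l 0) ∈ pr (l 0 ^ q) ::ₘ pr (l 1 ^ q) ::ₘ ({pr (l 2 ^ q)} : Multiset K) :=
          hf.symm ▸ Multiset.mem_cons_self _ _
        have e' : l 1 ^ q = 1 := by
          have : (l 0 * l 1 * l 2) ^ q = 1 := by rw [h, one_pow]
          rw [mul_pow, mul_pow, e, e2, one_pow, one_mul, mul_one] at this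
          exact this
        simp only [Multiset.mem_cons, Multiset.mem_singleton, e, e', e2, one_pow, or_self] at hmem1
        have : l 0 = 1 := by
          rcases pr_cases h0 one_ne_zero hmem1 with r | r <;> simpa using r
        left; rw [e, this]
    · rw [e1] at hf
      rcases three_perm hf with ⟨a, -, -⟩ | ⟨a, -, -⟩ | ⟨a, b, -⟩ | ⟨a, -, -⟩ | ⟨a, -, -⟩ | ⟨a, b, -⟩
      · exact pm_of_pr h0 h0 a
      · exact pm_of_pr h0 h0 a
      · exact pm_of_pr h0 h0 b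
      · exact pm_of_pr h0 h0 a
      · exact pm_of_pr h0 h0 a
      · exact pm_of_pr h0 h0 b
  obtain ⟨N, hN, hx⟩ : ∃ N, (N = q - 1 ∨ N = q + 1) ∧ l 0 ^ N = 1 := by
    rcases pm_pow h0 hq key with e | e
    · exact ⟨_, Or.inl rfl, e⟩
    · exact ⟨_, Or.inr rfl, e⟩
  refine ⟨N, hN, ?_⟩
  have hp : (l 0 * l 1 * l 2) ^ N = 1 := by rw [h, one_pow]
  rw [mul_pow, mul_pow, hx, one_mul] at hp
  intro i
  fin_cases i
  · exact hx
  · show l 1 ^ N = 1
    rcases hsing with e | e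
    · rwa [e, one_pow, mul_one] at hp
    · rw [e]; exact hx
  · show l 2 ^ N = 1
    rcases hsing with e | e
    · rw [e, one_pow]
    · rwa [e, hx, one_mul] at hp

set_option maxHeartbeats 1000000 in
/-- Every element order is bounded. -/
theorem upper {F : Type*} [Field F] [Fintype F] {p a : ℕ} [Fact p.Prime] (ha : 1 ≤ a)
    (hF : Fintype.card F = p ^ a) (g : Cfsg.Lie.G2 F) : Bound p (p ^ a) (orderOf g) := by
  classical
  have hp : p.Prime := Fact.out
  obtain ⟨q, hqdef⟩ : ∃ q, q = p ^ a := ⟨_, rfl⟩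
  rw [← hqdef]
  have hq : 1 ≤ q := hqdef ▸ Nat.one_le_pow _ _ hp.pos
  have : CharP F p := by
    obtain ⟨p', hp'⟩ := CharP.exists F
    obtain ⟨n, hn, hc⟩ := FiniteField.card F p'
    rw [hF] at hc
    have e : p = p' := (Nat.prime_dvd_prime_iff_eq hp hn).mp
      (hp.dvd_of_dvd_pow (hc ▸ dvd_pow_self p (by omega)))
    exact e ▸ hp'
  let φ := algebraMap F (AlgebraicClosure F)
  have : CharP (AlgebraicClosure F) p := charP_of_injective_algebraMap φ.injective p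
  have hψ : ∀ x : AlgebraicClosure F, iterateFrobenius (AlgebraicClosure F) p a x = x ^ q := fun x => by
    rw [iterateFrobenius_def, hqdef]
  have hpar : Odd q ∨ (2 : AlgebraicClosure F) = 0 := by
    rcases hp.eq_two_or_odd' with e | e
    · right; subst e; exact CharP.cast_eq_zero (AlgebraicClosure F) 2
    · left; rw [hqdef]; exact e.pow
  obtain ⟨e, m, hm, hn⟩ := Nat.exists_eq_pow_mul_and_not_dvd (orderOf_pos g).ne' p hp.ne_one
  have hm0 : 0 < m := Nat.pos_of_ne_zero fun e0 => hm (e0 ▸ dvd_zero p)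
  have hmK : (m : AlgebraicClosure F) ≠ 0 := fun e0 =>
    hm ((CharP.cast_eq_zero_iff (AlgebraicClosure F) p m).mp e0)
  have hsm : (mapG φ (g ^ p ^ e)) ^ m = 1 := by rw [← map_pow, ← pow_mul, ← hn, pow_orderOf_eq_one, map_one]
  obtain ⟨c, l, h, hc⟩ := exists_normal _ hmK hsm
  have finish : ∀ {N k : ℕ}, (g ^ p ^ e) ^ N = 1 → (g ^ m) ^ p ^ k = 1 → orderOf g ∣ p ^ k * N := by
    intro N k hN hk
    have d1 : m ∣ N := by
      have h1 : orderOf (g ^ p ^ e) = m := by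
        rw [orderOf_pow_of_dvd (pow_ne_zero _ hp.ne_zero) (hn ▸ Dvd.intro _ rfl), hn,
          Nat.mul_div_cancel_left _ (pow_pos hp.pos e)]
      exact h1 ▸ orderOf_dvd_of_pow_eq_one hN
    have d2 : p ^ e ∣ p ^ k := by
      have h1 : orderOf (g ^ m) = p ^ e := by
        rw [orderOf_pow_of_dvd hm0.ne' (hn ▸ Dvd.intro_left _ rfl), hn, Nat.mul_div_cancel _ hm0]
      exact h1 ▸ orderOf_dvd_of_pow_eq_one hk
    rw [hn]; exact mul_dvd_mul d2 d1
  -- a datum may be permuted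
  have sWit : ∀ {c : Cfsg.Lie.G2 (AlgebraicClosure F)} {l : Fin 3 → AlgebraicClosure F}
      {h : l 0 * l 1 * l 2 = 1}, c * mapG φ (g ^ p ^ e) * c⁻¹ = slG (diag3 l h) → ∀ {N : ℕ},
      (∀ i, l i ^ N = 1) → (g ^ p ^ e) ^ N = 1 := by
    intro c l h hc N hN
    have h1 : (c * mapG φ (g ^ p ^ e) * c⁻¹) ^ N = 1 := by
      rw [hc, ← map_pow, diag3_pow_eq_one hN, map_one]
    rw [conj_pow, conj_eq_one_iff, ← map_pow] at h1
    exact mapG_injective φ (h1.trans (map_one _).symm)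
  have uWit : ∀ {c : Cfsg.Lie.G2 (AlgebraicClosure F)} {j : ℕ},
      (c * mapG φ (g ^ m) * c⁻¹) ^ j = 1 → (g ^ m) ^ j = 1 := by
    intro c j h1
    rw [conj_pow, conj_eq_one_iff, ← map_pow] at h1
    exact mapG_injective φ (h1.trans (map_one _).symm)
  have uNil : ∀ c : Cfsg.Lie.G2 (AlgebraicClosure F), (c * mapG φ (g ^ m) * c⁻¹) ^ p ^ e = 1 := fun c => by
    rw [conj_pow, ← map_pow, ← pow_mul, mul_comm m, ← hn, pow_orderOf_eq_one, map_one, mul_one,
      mul_inv_cancel]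
  have uComm : ∀ c : Cfsg.Lie.G2 (AlgebraicClosure F),
      Commute (c * mapG φ (g ^ m) * c⁻¹) (c * mapG φ (g ^ p ^ e) * c⁻¹) := fun c =>
    (Commute.conj_iff c).mpr ((Commute.pow_pow_self g m (p ^ e)).map (mapG φ))
  have frob : ∀ {c : Cfsg.Lie.G2 (AlgebraicClosure F)} {l : Fin 3 → AlgebraicClosure F}
      {h : l 0 * l 1 * l 2 = 1}, c * mapG φ (g ^ p ^ e) * c⁻¹ = slG (diag3 l h) →
      pr (l 0 ^ q) ::ₘ pr (l 1 ^ q) ::ₘ {pr (l 2 ^ q)} =
        pr (l 0) ::ₘ pr (l 1) ::ₘ ({pr (l 2)} : Multiset _) := by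
    intro c l h hc
    exact frob_perm φ (iterateFrobenius (AlgebraicClosure F) p a) (hF.trans hqdef.symm) hψ _ c l h hc
  have perm : ∀ σ : Equiv.Perm (Fin 3), ∃ (c' : Cfsg.Lie.G2 (AlgebraicClosure F))
      (h' : (l ∘ σ) 0 * (l ∘ σ) 1 * (l ∘ σ) 2 = 1),
      c' * mapG φ (g ^ p ^ e) * c'⁻¹ = slG (diag3 (l ∘ σ) h') := by
    intro σ
    obtain ⟨d, h', hd⟩ := exists_perm σ l h
    refine ⟨d * c, h', ?_⟩
    rw [← hd, ← hc]; group
  have sing : ∀ {c : Cfsg.Lie.G2 (AlgebraicClosure F)} {l : Fin 3 → AlgebraicClosure F}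
      {h : l 0 * l 1 * l 2 = 1}, c * mapG φ (g ^ p ^ e) * c⁻¹ = slG (diag3 l h) →
      (l 2 = 1 ∨ l 1 = l 0) → (g ^ m) ^ p = 1 → Bound p q (orderOf g) := by
    intro c l h hc hs hu
    obtain ⟨N, hN, hl⟩ := singular_case hq l h (frob hc) hs
    have hd := finish (sWit hc hl) (k := 1) (by rwa [pow_one])
    rw [pow_one] at hd
    rcases hN with e0 | e0 <;> subst e0
    · exact Or.inr (Or.inr (Or.inr (Or.inl hd)))
    · exact Or.inr (Or.inr (Or.inr (Or.inr (Or.inl hd))))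
  by_cases hone : ∃ k, l k = 1
  · obtain ⟨k, hk⟩ := hone
    obtain ⟨σ, hσ⟩ : ∃ σ : Equiv.Perm (Fin 3), σ 2 = k := ⟨Equiv.swap 2 k, Equiv.swap_apply_left 2 k⟩
    obtain ⟨c', h', hc'⟩ := perm σ
    have e2 : (l ∘ σ) 2 = 1 := by rw [Function.comp_apply, hσ, hk]
    generalize l ∘ σ = l' at h' hc' e2
    by_cases h01 : l' 0 = 1
    · have e1 : l' 1 = 1 := by rw [h01, e2, one_mul, mul_one] at h'; exact h'
      have hall : ∀ i, l' i ^ 1 = 1 := by intro i; fin_cases i <;> simp [h01, e1, e2]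
      rcases trivial_case (e := e) _ (uNil c') with hu | ⟨hp35, hu⟩ | ⟨hp2, hu⟩
      · refine Or.inr (Or.inr (Or.inr (Or.inl ?_)))
        have hd := finish (sWit hc' hall) (k := 1) (by rw [pow_one]; exact uWit hu)
        rw [pow_one, mul_one] at hd
        exact hd.trans (dvd_mul_right _ _)
      · refine Or.inr (Or.inr (Or.inr (Or.inr (Or.inr (Or.inl ⟨?_, hp35⟩)))))
        simpa using finish (sWit hc' hall) (k := 2) (uWit hu)
      · refine Or.inr (Or.inr (Or.inr (Or.inr (Or.inr (Or.inr ⟨hp2, Or.inl ?_⟩)))))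
        have hd := finish (sWit hc' hall) (k := 3) (by subst hp2; exact uWit hu)
        subst hp2; simpa using hd
    · exact sing hc' (Or.inl e2)
        (uWit (fixed_case _ l' h' (hc' ▸ uComm c') (uNil c') h01 e2))
  push Not at hone
  by_cases heq : ∃ i j, i ≠ j ∧ l i = l j
  · obtain ⟨i, j, hij, he⟩ := heq
    obtain ⟨σ, hσ0, hσ1⟩ : ∃ σ : Equiv.Perm (Fin 3), σ 0 = i ∧ σ 1 = j := by
      revert hij; clear he; revert i j; decide
    obtain ⟨c', h', hc'⟩ := perm σ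
    have e1 : (l ∘ σ) 1 = (l ∘ σ) 0 := by rw [Function.comp_apply, Function.comp_apply, hσ0, hσ1, he]
    have n0 : (l ∘ σ) 0 ≠ 1 := hone _
    have n2 : (l ∘ σ) 2 ≠ 1 := hone _
    generalize l ∘ σ = l' at h' hc' e1 n0 n2
    rcases double_case _ l' h' (hc' ▸ uComm c') (uNil c') n0 e1 n2 with hu | ⟨hp2, hu, hl⟩
    · exact sing hc' (Or.inr e1) (uWit hu)
    · refine Or.inr (Or.inr (Or.inr (Or.inr (Or.inr (Or.inr ⟨hp2, Or.inr ?_⟩)))))
      have hd := finish (sWit hc' hl) (k := 2) (by subst hp2; exact uWit hu)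
      subst hp2; simpa using hd
  push Not at heq
  have hinv : ∀ i j, i ≠ j → l i ≠ (l j)⁻¹ := by
    intro i j hij he
    obtain ⟨σ, hσ0, hσ1⟩ : ∃ σ : Equiv.Perm (Fin 3), σ 0 = i ∧ σ 1 = j := by
      revert hij; clear he; revert i j; decide
    obtain ⟨-, h', -⟩ := perm σ
    simp only [Function.comp_apply, hσ0, hσ1, he] at h'
    rw [inv_mul_cancel₀ (fun e0 => by simp [e0] at h'), one_mul] at h'
    exact hone _ h'
  have hu := regular_case _ l h (hc ▸ uComm c) (uNil c) hone (fun i j hij => ⟨heq i j hij, hinv i j hij⟩)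
  obtain ⟨N, hN, hl⟩ := semisimple_case hq hpar l h (frob hc)
  have hd := finish (sWit hc hl) (k := 0) (uWit (c := c) (by rw [hu, one_pow]))
  rw [pow_zero, one_mul] at hd
  rcases hN with e0 | e0 | e0 <;> subst e0
  · exact Or.inl hd
  · exact Or.inr (Or.inl hd)
  · exact Or.inr (Or.inr (Or.inl hd))

end Cfsg.Agent.H14.GTwoOrd
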